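import Cfsg.Agent.Lib.SylowAutSolvable.Quadratic
import Cfsg.Agent.Lib.Perm.NonsolvableRegular
import Cfsg.Agent.Lib.Coprime.Basic
import Cfsg.Agent.GroupStructure3.FrattiniAut

/-!
Automorphisms of a finite 2-group fixing every involution form a solvable group (given that odd
order groups are solvable).
-/

set_option autoImplicit false
set_option linter.style.haveILetI false
set_option linter.unusedSectionVars false

namespace Cfsg.Agent.SylowAutSolvable.FixInvolutions

open Subgroup
open scoped commutatorElement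

universe u

/-- A finite group whose 2-subgroups have order at most two is solvable. -/
theorem isSolvable_of_card_le_two
    (hodd : ∀ (H : Type u) [Group H] [Finite H], Odd (Nat.card H) → Group.IsSolvable H)
    {K : Type u} [Group K] [Finite K] (h : ∀ T : Subgroup K, IsPGroup 2 T → Nat.card T ≤ 2) :
    Group.IsSolvable K := by
  haveI : Fact (Nat.Prime 2) := ⟨Nat.prime_two⟩
  by_cases he : 2 ∣ Nat.card K
  · obtain ⟨P⟩ : Nonempty (Sylow 2 K) := Sylow.nonempty
    have h2 : Nat.card (P : Subgroup K) = 2 :=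
      le_antisymm (h _ P.isPGroup') (Nat.le_of_dvd Nat.card_pos (P.dvd_card_of_dvd_card he))
    have hcyc : IsCyclic (P : Subgroup K) := isCyclic_of_prime_card h2
    have hmin : (Nat.card K).minFac = 2 := (Nat.minFac_eq_two_iff _).2 he
    have hc := IsCyclic.isComplement' hmin hcyc
    set N := (MonoidHom.transferSylow P (hcyc.normalizer_le_centralizer hmin)).ker
    have hidx : N.index = 2 := by rw [hc.symm.index_eq_card]; exact h2
    have hodd' : Odd (Nat.card N) := by
      rw [Nat.odd_iff, ← Nat.two_dvd_ne_zero]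
      intro h4
      have h5 := P.not_dvd_index
      rw [hc.index_eq_card] at h5
      exact h5 h4
    haveI : Group.IsSolvable N := hodd _ hodd'
    haveI : Fact (Nat.card (K ⧸ N)).Prime := ⟨by
      rw [← Subgroup.index_eq_card, hidx]; exact Nat.prime_two⟩
    haveI : IsCyclic (K ⧸ N) := isCyclic_of_prime_card rfl
    letI : CommGroup (K ⧸ N) := IsCyclic.commGroup
    haveI : Group.IsSolvable (K ⧸ N) := inferInstance
    exact Group.isSolvable_of_ker_le_range N.subtype (QuotientGroup.mk' N)
      (by rw [QuotientGroup.ker_mk', range_subtype])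
  · exact hodd K (by rw [Nat.odd_iff]; omega)

/-- A homomorphism from a perfect group to a solvable group is trivial. -/
theorem hom_eq_one {J : Type*} [Group J] (hJ : _root_.commutator J = ⊤) {S : Type*} [Group S]
    [Group.IsSolvable S] (f : J →* S) (x : J) : f x = 1 := by
  have hd : ∀ n, (⊤ : Subgroup J) ≤ derivedSeries J n := by
    intro n
    induction n with
    | zero => exact le_rfl
    | succ n ih =>
      rw [derivedSeries_succ, top_le_iff.mp ih, ← _root_.commutator_def, hJ]
  obtain ⟨n, hn⟩ := Group.IsSolvable.solvable (G := S)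
  have h : f x ∈ derivedSeries S n := map_derivedSeries_le_derivedSeries f n ⟨x, hd n trivial, rfl⟩
  rw [hn] at h
  exact h

variable {U : Type u} [Group U] [Finite U]

section Step

variable (J : Subgroup (MulAut U)) (W : Subgroup U) (hinv : ∀ φ ∈ J, ∀ w ∈ W, φ w ∈ W)

/-- The restriction to an invariant subgroup. -/
def res : J →* MulAut W where
  toFun φ :=
    { toFun := fun w => ⟨(φ : MulAut U) w, hinv _ φ.2 _ w.2⟩
      invFun := fun w => ⟨(φ : MulAut U)⁻¹ w, hinv _ (J.inv_mem φ.2) _ w.2⟩
      left_inv := fun w => Subtype.ext (by simp)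
      right_inv := fun w => Subtype.ext (by simp)
      map_mul' := fun a b => Subtype.ext (map_mul _ _ _) }
  map_one' := rfl
  map_mul' _ _ := rfl

end Step

theorem false_of_minimal
    (hodd : ∀ (H : Type u) [Group H] [Finite H], Odd (Nat.card H) → Group.IsSolvable H)
    {W : Type u} [Group W] [Finite W] (hW : IsPGroup 2 W) {J : Type u} [Group J] [Finite J]
    (hJ : _root_.commutator J = ⊤) (r : J →* MulAut W)
    (hinvol : ∀ (j : J) (x : W), x * x = 1 → r j x = x)
    (hmin : ∀ A : Subgroup W, A ≠ ⊤ → (∀ j, ∀ a ∈ A, r j a ∈ A) → ∀ j, ∀ a ∈ A, r j a = a)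
    (hne : ∃ (j : J) (x : W), r j x ≠ x) : False := by
  classical
  haveI : Fact (Nat.Prime 2) := ⟨Nat.prime_two⟩
  haveI := hW.isNilpotent
  set F : Subgroup W :=
    { carrier := {x | ∀ j, r j x = x}
      one_mem' := fun j => map_one _
      mul_mem' := fun {a b} ha hb j => by rw [map_mul, ha j, hb j]
      inv_mem' := fun {a} ha j => by rw [map_inv, ha j] } with hF
  have hmemF : ∀ x, x ∈ F ↔ ∀ j, r j x = x := fun x => Iff.rfl
  have hFtop : F ≠ ⊤ := fun h => by
    obtain ⟨j, x, hx⟩ := hne
    exact hx ((show x ∈ F by rw [h]; trivial) j)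
  have hmax : ∀ A : Subgroup W, (∀ j, ∀ a ∈ A, r j a ∈ A) → A ≤ F ∨ A = ⊤ := fun A hA => by
    by_cases h : A = ⊤
    · exact Or.inr h
    · exact Or.inl fun a ha j => hmin A h hA j a ha
  haveI hFn : F.Normal := by
    rw [← Subgroup.normalizer_eq_top_iff]
    refine (hmax _ fun j a ha => ?_).resolve_left
      (Group.normalizerCondition_of_isNilpotent F (lt_top_iff_ne_top.2 hFtop)).not_ge
    rw [mem_normalizer_iff] at ha ⊢
    intro x
    have key : ∀ y, y ∈ F ↔ r j y ∈ F := fun y => ⟨fun hy => by rwa [hy j], fun hy => by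
      have := hy j⁻¹
      rw [← MulAut.mul_apply, ← map_mul, inv_mul_cancel, map_one, MulAut.one_apply] at this
      rwa [← this] at hy⟩
    obtain ⟨y, rfl⟩ := (r j).surjective x
    rw [← map_inv, ← map_mul, ← map_mul, ← key, ← key]
    exact ha y
  -- displacements generate `W`
  set D : Subgroup W := closure {d | ∃ (j : J) (x : W), r j x * x⁻¹ = d} with hD
  have hDtop : D = ⊤ := by
    refine (hmax D fun i d hd => ?_).resolve_left fun hle => ?_
    · induction hd using Subgroup.closure_induction with
      | mem d hd =>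
        obtain ⟨j, x, rfl⟩ := hd
        refine subset_closure ⟨i * j * i⁻¹, r i x, ?_⟩
        simp only [map_mul, map_inv, MulAut.mul_apply, MulAut.inv_def, MulEquiv.symm_apply_apply]
      | one => rw [map_one]; exact one_mem _
      | mul a b _ _ ha hb => rw [map_mul]; exact mul_mem ha hb
      | inv a _ ha => rw [map_inv]; exact inv_mem ha
    · obtain ⟨j, x, hx⟩ := hne
      have hmem : ∀ i, r i x * x⁻¹ ∈ F := fun i => hle (subset_closure ⟨i, x, rfl⟩)
      let f : J →* W :=
        { toFun := fun i => (r i x * x⁻¹)⁻¹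
          map_one' := by simp
          map_mul' := fun a b => by
            have e : r a (r b x) = r b x * x⁻¹ * r a x := by
              conv_lhs => rw [show r b x = r b x * x⁻¹ * x by group]
              rw [map_mul, hmem b a]
            rw [map_mul, MulAut.mul_apply, e]
            group }
      have h1 : (r j x * x⁻¹)⁻¹ = 1 := hom_eq_one hJ f j
      exact hx (mul_inv_eq_one.1 (inv_eq_one.1 h1))
  have hcen : ∀ f ∈ F, ∀ x, Commute f x := by
    intro f hf x
    have : x ∈ D := by rw [hDtop]; trivial
    induction this using Subgroup.closure_induction with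
    | mem d hd =>
      obtain ⟨j, x, rfl⟩ := hd
      have h1 := (hFn.conj_mem f hf x) j
      rw [map_mul, map_mul, map_inv, hf j] at h1
      show f * (r j x * x⁻¹) = r j x * x⁻¹ * f
      calc f * (r j x * x⁻¹) = (r j x)⁻¹⁻¹ * ((r j x)⁻¹ * f * r j x) * x⁻¹ := by group
        _ = r j x * ((r j x)⁻¹ * f * r j x) * x⁻¹ := by rw [inv_inv]
        _ = _ := by
          have h2 := (hFn.conj_mem f hf (x⁻¹)) j
          rw [map_mul, map_mul, map_inv, hf j, inv_inv] at h2
          rw [h2]; group
    | one => exact Commute.one_right f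
    | mul a b _ _ ha hb => exact ha.mul_right hb
    | inv a _ ha => exact ha.inv_right
  have hsq : ∀ x : W, x * x ∈ F := by
    set Q : Subgroup W := closure {y | ∃ x : W, x * x = y} with hQ
    have hQ1 : Q ≤ F := (hmax Q fun i d hd => by
        induction hd using Subgroup.closure_induction with
        | mem d hd =>
          obtain ⟨x, rfl⟩ := hd
          exact subset_closure ⟨r i x, (map_mul _ _ _).symm⟩
        | one => rw [map_one]; exact one_mem _
        | mul a b _ _ ha hb => rw [map_mul]; exact mul_mem ha hb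
        | inv a _ ha => rw [map_inv]; exact inv_mem ha).resolve_right fun h => by
      obtain ⟨C, hC, -⟩ := (eq_top_or_exists_le_coatom F).resolve_left hFtop
      refine hC.1 (top_le_iff.1 ?_)
      rw [← h, hQ, closure_le]
      rintro _ ⟨x, rfl⟩
      rw [← pow_two]
      exact frattini_le_coatom hC (GroupStructure3.FrattiniAut.pow_mem_frattini hW x)
    exact fun x => hQ1 (subset_closure ⟨x, rfl⟩)
  -- quotient
  have hex : ∀ a : W ⧸ F, a * a = 1 := fun a => by
    induction a using QuotientGroup.induction_on with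
    | H x => rw [← QuotientGroup.mk_mul, QuotientGroup.eq_one_iff]; exact hsq x
  have hcomm : ∀ a b : W ⧸ F, a * b = b * a := fun a b => by
    calc a * b = (a * b)⁻¹ := eq_inv_of_mul_eq_one_left (hex _)
      _ = b * a := by
        rw [mul_inv_rev, inv_eq_of_mul_eq_one_left (hex b), inv_eq_of_mul_eq_one_left (hex a)]
  letI : CommGroup (W ⧸ F) := { (inferInstance : Group (W ⧸ F)) with mul_comm := hcomm }
  letI : CommGroup F := { (inferInstance : Group F) with
    mul_comm := fun a b => Subtype.ext (hcen a a.2 b) }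
  let k : W → W → F := fun a b => ⟨b⁻¹ * a⁻¹ * b * a, by
    rw [← QuotientGroup.eq_one_iff (N := F)]
    simp only [QuotientGroup.mk_mul, QuotientGroup.mk_inv]
    rw [mul_assoc ((b : W ⧸ F)⁻¹), mul_comm ((a : W ⧸ F)⁻¹) (b : W ⧸ F)]
    group⟩
  let s : W → F := fun a => ⟨a * a, hsq a⟩
  have hs : ∀ a b, s (a * b) = s a * s b * k a b := fun a b => by
    refine Subtype.ext ?_
    show a * b * (a * b) = a * a * (b * b) * (b⁻¹ * a⁻¹ * b * a)
    have h1 := (hcen _ (k a b).2 b).eq
    calc a * b * (a * b) = a * a * b * ((b⁻¹ * a⁻¹ * b * a) * b) := by group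
      _ = a * a * b * (b * (b⁻¹ * a⁻¹ * b * a)) := by rw [h1]
      _ = _ := by group
  have hk1 : ∀ a a' b, k (a * a') b = k a b * k a' b := fun a a' b => by
    refine Subtype.ext ?_
    show b⁻¹ * (a * a')⁻¹ * b * (a * a') = b⁻¹ * a⁻¹ * b * a * (b⁻¹ * a'⁻¹ * b * a')
    have h1 := (hcen _ (k a b).2 (b⁻¹ * a'⁻¹ * b)).eq
    calc b⁻¹ * (a * a')⁻¹ * b * (a * a')
        = b⁻¹ * a'⁻¹ * b * (b⁻¹ * a⁻¹ * b * a) * a' := by group
      _ = b⁻¹ * a⁻¹ * b * a * (b⁻¹ * a'⁻¹ * b) * a' := by rw [h1]
      _ = _ := by group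
  set Sq : Subgroup F := (powMonoidHom 2 : F →* F).range
  have hVtwo : ∀ a : F ⧸ Sq, a * a = 1 := fun a => by
    induction a using QuotientGroup.induction_on with
    | H f =>
      rw [← QuotientGroup.mk_mul, QuotientGroup.eq_one_iff]
      exact ⟨f, pow_two f⟩
  let q0 : W → Additive (F ⧸ Sq) := fun a => Additive.ofMul (QuotientGroup.mk (s a))
  let κ : W → W → Additive (F ⧸ Sq) := fun a b => Additive.ofMul (QuotientGroup.mk (k a b))
  have hq0 : ∀ a b, q0 (a * b) = q0 a + q0 b + κ a b := fun a b => by
    show Additive.ofMul (QuotientGroup.mk (s (a * b))) = _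
    rw [hs, QuotientGroup.mk_mul, QuotientGroup.mk_mul]; rfl
  have hκ : ∀ a a' b, κ (a * a') b = κ a b + κ a' b := fun a a' b => by
    show Additive.ofMul (QuotientGroup.mk (k _ b)) = _
    rw [hk1, QuotientGroup.mk_mul]; rfl
  have hq0F : ∀ (a f : W), f ∈ F → q0 (a * f) = q0 a := fun a f hf => by
    have e : s (a * f) = s a * (⟨f, hf⟩ * ⟨f, hf⟩) := Subtype.ext (by
      show a * f * (a * f) = a * a * (f * f)
      have h1 := (hcen f hf a).eq
      calc a * f * (a * f) = a * (f * a) * f := by group
        _ = _ := by rw [h1]; group)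
    show Additive.ofMul (QuotientGroup.mk (s (a * f))) = _
    rw [e, QuotientGroup.mk_mul]
    have : ((⟨f, hf⟩ * ⟨f, hf⟩ : F) : F ⧸ Sq) = 1 :=
      (QuotientGroup.eq_one_iff _).2 ⟨⟨f, hf⟩, pow_two _⟩
    rw [this, mul_one]
  let q : Additive (W ⧸ F) → Additive (F ⧸ Sq) := fun x => Quotient.liftOn' (Additive.toMul x) q0
    fun a b hab => by
      rw [QuotientGroup.leftRel_apply] at hab
      rw [show b = a * (a⁻¹ * b) by group, hq0F a _ hab]
  -- the action
  have hmap : ∀ j, F.map (r j).toMonoidHom = F := fun j => by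
    ext x
    constructor
    · rintro ⟨f, hf, rfl⟩
      show r j f ∈ F
      rwa [hf j]
    · exact fun hx => ⟨x, hx, hx j⟩
  let rq : J →* MulAut (W ⧸ F) :=
    { toFun := fun j => QuotientGroup.congr F F (r j) (hmap j)
      map_one' := by
        refine MulEquiv.ext fun a => ?_
        induction a using QuotientGroup.induction_on with
        | H x => show ((r 1 x : W) : W ⧸ F) = (x : W ⧸ F); rw [map_one]; rfl
      map_mul' := fun i j => by
        refine MulEquiv.ext fun a => ?_
        induction a using QuotientGroup.induction_on with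
        | H x => show ((r (i * j) x : W) : W ⧸ F) = (r i (r j x) : W); rw [map_mul]; rfl }
  letI : DistribMulAction rq.range (Additive (W ⧸ F)) :=
    { smul := fun g a => Additive.ofMul ((g : MulAut (W ⧸ F)) (Additive.toMul a))
      one_smul := fun _ => rfl
      mul_smul := fun _ _ _ => rfl
      smul_zero := fun g => map_one (g : MulAut (W ⧸ F))
      smul_add := fun g a b => map_mul (g : MulAut (W ⧸ F)) _ _ }
  haveI : FaithfulSMul rq.range (Additive (W ⧸ F)) :=
    ⟨fun h => Subtype.ext (MulEquiv.ext fun a => h (Additive.ofMul a))⟩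
  have hdata : Quadratic.Data (J := rq.range) q := by
    refine ⟨fun x => hex _, fun a => hVtwo _, ?_, ?_, ?_, ?_⟩
    · intro x y z
      induction x using QuotientGroup.induction_on with | H a => ?_
      induction y using QuotientGroup.induction_on with | H b => ?_
      induction z using QuotientGroup.induction_on with | H c => ?_
      show q0 (a * b * c) + q0 a + q0 b + q0 c = q0 (a * b) + q0 (b * c) + q0 (a * c)
      have h2 : ∀ v : Additive (F ⧸ Sq), v + v = 0 := fun v => hVtwo _
      rw [hq0 (a * b) c, hq0 a b, hq0 b c, hq0 a c, hκ]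
      calc q0 a + q0 b + κ a b + q0 c + (κ a c + κ b c) + q0 a + q0 b + q0 c
          = (q0 a + q0 a) + (q0 b + q0 b) + (q0 c + q0 c) + (κ a b + κ b c + κ a c) := by abel
        _ = q0 a + q0 b + κ a b + (q0 b + q0 c + κ b c) + (q0 a + q0 c + κ a c) := by
          abel
    · rintro ⟨_, j, rfl⟩ x
      induction x using QuotientGroup.induction_on with | H a => ?_
      show Additive.ofMul (QuotientGroup.mk (s (r j a))) = Additive.ofMul (QuotientGroup.mk (s a))
      congr 2
      refine Subtype.ext ?_
      show r j a * r j a = a * a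
      rw [← map_mul, hsq a j]
    · intro x hx
      induction x using QuotientGroup.induction_on with | H a => ?_
      have hx' : ((s a : F) : F ⧸ Sq) = 1 := hx
      obtain ⟨f, hf⟩ := (QuotientGroup.eq_one_iff _).1 hx'
      have hf' : (f : W) * f = a * a := by
        have := congrArg Subtype.val hf
        simpa [pow_two] using this
      have h1 : a * (f : W)⁻¹ * (a * (f : W)⁻¹) = 1 := by
        have h2 := (hcen _ (inv_mem f.2) a).eq
        calc a * (f : W)⁻¹ * (a * (f : W)⁻¹) = a * ((f : W)⁻¹ * a) * (f : W)⁻¹ := by group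
          _ = a * a * ((f : W) * f)⁻¹ := by rw [h2]; group
          _ = 1 := by rw [hf', mul_inv_cancel]
      have h3 : a * (f : W)⁻¹ ∈ F := fun j => hinvol j _ h1
      refine (QuotientGroup.eq_one_iff a).2 ?_
      simpa using F.mul_mem h3 f.2
    · intro B hB
      set A := (AddSubgroup.toSubgroup' B).comap (QuotientGroup.mk' F) with hA
      rcases hmax A (fun j a ha => hB ⟨rq j, j, rfl⟩ _ ha) with h | h
      · left
        refine eq_bot_iff.2 fun x hx => ?_
        induction x using QuotientGroup.induction_on with | H a => ?_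
        exact AddSubgroup.mem_bot.2 ((QuotientGroup.eq_one_iff a).2 (h (show a ∈ A from hx)))
      · right
        refine eq_top_iff.2 fun x _ => ?_
        induction x using QuotientGroup.induction_on with | H a => ?_
        exact (show a ∈ A by rw [h]; trivial)
  haveI : Group.IsSolvable rq.range :=
    isSolvable_of_card_le_two hodd fun T hT => Quadratic.card_le_two hdata T hT
  have hfix : ∀ (j : J) (x : W), r j x * x⁻¹ ∈ F := fun j x => by
    have h1 : rq j = 1 := congrArg Subtype.val (hom_eq_one hJ rq.rangeRestrict j)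
    have h2 : ((r j x : W) : W ⧸ F) = x := DFunLike.congr_fun h1 (x : W ⧸ F)
    rw [← QuotientGroup.eq_one_iff (N := F), QuotientGroup.mk_mul, QuotientGroup.mk_inv, h2,
      mul_inv_cancel]
  exact hFtop (top_le_iff.1 (hDtop ▸ (closure_le F).2 (by rintro _ ⟨j, x, rfl⟩; exact hfix j x)))

/-- Automorphisms of a finite 2-group fixing every involution form a solvable group. -/
theorem isSolvable_of_fix
    (hodd : ∀ (H : Type u) [Group H] [Finite H], Odd (Nat.card H) → Group.IsSolvable H)
    (hU : IsPGroup 2 U) (B : Subgroup (MulAut U))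
    (hB : ∀ φ ∈ B, ∀ x : U, x * x = 1 → φ x = x) : Group.IsSolvable B := by
  classical
  by_contra hns
  obtain ⟨L, -, hLnt, hL⟩ := Perm.NearField.exists_perfect_normal hns
  set J := L.map B.subtype
  let e : L ≃* J := L.equivMapOfInjective B.subtype B.subtype_injective
  have hJ : _root_.commutator J = ⊤ := by
    rw [_root_.commutator_def, ← Subgroup.map_top_of_surjective e.toMonoidHom e.surjective,
      ← map_commutator, ← _root_.commutator_def, hL]
  haveI : Finite (Subgroup U) := Finite.of_injective (fun H => (H : Set U)) SetLike.coe_injective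
  obtain ⟨φ, hφ⟩ := exists_ne (1 : L)
  obtain ⟨x, hx⟩ : ∃ x : U, (e φ : MulAut U) x ≠ x := by
    by_contra h
    push Not at h
    exact hφ (e.injective (by rw [map_one]; exact Subtype.ext (MulEquiv.ext h)))
  obtain ⟨W, ⟨hinv, hW⟩, hmin⟩ := wellFounded_lt.has_min
    {W : Subgroup U | (∀ φ ∈ J, ∀ w ∈ W, φ w ∈ W) ∧ ∃ φ ∈ J, ∃ w ∈ W, φ w ≠ w}
    ⟨⊤, fun _ _ _ _ => trivial, _, (e φ).2, x, trivial, hx⟩
  refine false_of_minimal hodd (hU.to_subgroup W) hJ (res J W hinv)
    (fun j w hw => Subtype.ext ?_) (fun A hA hAinv j a ha => ?_) ?_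
  · obtain ⟨j0, -, hj0⟩ := j.2
    exact hB _ (by rw [← hj0]; exact j0.2) _ (congrArg Subtype.val hw)
  · by_contra h
    refine hmin (A.map W.subtype) ⟨?_, j, j.2, _, ⟨a, ha, rfl⟩, fun he => h (Subtype.ext he)⟩ ?_
    · rintro ψ hψ _ ⟨w, hw, rfl⟩
      exact ⟨_, hAinv ⟨ψ, hψ⟩ w hw, rfl⟩
    · refine lt_of_le_of_ne (map_subtype_le _) fun he => hA (map_injective W.subtype_injective ?_)
      rw [he, ← MonoidHom.range_eq_map, range_subtype]
  · obtain ⟨ψ, hψ, w, hw, hne⟩ := hW
    exact ⟨⟨ψ, hψ⟩, ⟨w, hw⟩, fun he => hne (congrArg Subtype.val he)⟩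

end Cfsg.Agent.SylowAutSolvable.FixInvolutions
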