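import Mathlib
import Cfsg.Agent.Lib.CharP.Zsigmondy
import Cfsg.Agent.Lib.Characters.Burnside
import Cfsg.Agent.GroupStructure3.FrattiniAut

/-!
The normalizer of a subgroup of `GL(n, 2)` transitive on the non-zero vectors is solvable modulo
that subgroup.
-/

set_option autoImplicit false
set_option linter.style.haveILetI false
set_option linter.unusedSectionVars false

namespace Cfsg.Agent.SylowAutSolvable.TransitiveLinear

open Subgroup
open scoped commutatorElement

universe u

variable {V : Type u} [CommGroup V] [Finite V]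

/-- Multiplicative automorphisms as additive endomorphisms. -/
def toEnd : MulAut V →* AddMonoid.End (Additive V) where
  toFun φ := MonoidHom.toAdditive φ.toMonoidHom
  map_one' := rfl
  map_mul' _ _ := rfl

theorem isCyclic_centralizer [Nontrivial V] (S : Set (MulAut V))
    (hirr : ∀ W : Subgroup V, (∀ φ ∈ S, ∀ w ∈ W, φ w ∈ W) → W = ⊥ ∨ W = ⊤) :
    IsCyclic (centralizer S) := by
  classical
  let K : Subring (AddMonoid.End (Additive V)) := Subring.centralizer (toEnd '' S)
  haveI : Finite (AddMonoid.End (Additive V)) :=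
    Finite.of_injective (fun f => (⇑f : Additive V → Additive V)) DFunLike.coe_injective
  haveI : Nontrivial K := by
    refine ⟨⟨1, 0, fun h => ?_⟩⟩
    obtain ⟨v, hv⟩ := exists_ne (1 : V)
    exact hv (DFunLike.congr_fun (congrArg Subtype.val h) (Additive.ofMul v))
  haveI : NoZeroDivisors K := by
    refine ⟨fun {a c} hac => ?_⟩
    by_cases hc : c = 0
    · exact Or.inr hc
    left
    let f : AddMonoid.End (Additive V) := c.1
    have hcomm : ∀ φ ∈ S, ∀ x : Additive V, toEnd φ (f x) = f (toEnd φ x) := fun φ hφ x =>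
      DFunLike.congr_fun (Subring.mem_centralizer_iff.mp c.2 _ ⟨φ, hφ, rfl⟩) x
    let W : Subgroup V :=
      { carrier := {v | ∃ x, f x = Additive.ofMul v}
        one_mem' := ⟨0, map_zero f⟩
        mul_mem' := fun {v w} ⟨x, hx⟩ ⟨y, hy⟩ => ⟨x + y, by rw [map_add, hx, hy]; rfl⟩
        inv_mem' := fun {v} ⟨x, hx⟩ => ⟨-x, by rw [map_neg, hx]; rfl⟩ }
    rcases hirr W (fun φ hφ v ⟨x, hx⟩ => ⟨toEnd φ x, by rw [← hcomm φ hφ, hx]; rfl⟩) with h | h
    · refine absurd (Subtype.ext ?_) hc
      refine AddMonoidHom.ext fun x => ?_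
      have : Additive.toMul (f x) ∈ W := ⟨x, rfl⟩
      rw [h, mem_bot] at this
      exact this
    · refine Subtype.ext (AddMonoidHom.ext fun x => ?_)
      obtain ⟨y, hy⟩ : Additive.toMul x ∈ W := by rw [h]; trivial
      have := DFunLike.congr_fun (congrArg Subtype.val hac) y
      exact (congrArg (a : AddMonoid.End (Additive V)) (hy.symm : x = f y)).trans this
  haveI : IsDomain K := NoZeroDivisors.to_isDomain K
  letI : CommRing K :=
    { (inferInstance : Ring K) with mul_comm := (Finite.isDomain_to_isField K).mul_comm }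
  haveI : IsDomain K := NoZeroDivisors.to_isDomain K
  let ι : centralizer S →* K :=
    { toFun := fun φ => ⟨toEnd (φ : MulAut V), Subring.mem_centralizer_iff.mpr (by
        rintro _ ⟨ψ, hψ, rfl⟩
        rw [← map_mul, ← map_mul, mem_centralizer_iff.mp φ.2 ψ hψ])⟩
      map_one' := rfl
      map_mul' := fun _ _ => rfl }
  refine isCyclic_of_injective_ringHom (R := K) ι fun φ ψ h => ?_
  refine Subtype.ext (MulEquiv.ext fun v => ?_)
  exact DFunLike.congr_fun (congrArg Subtype.val h) (Additive.ofMul v)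

/-- `N(R)` is solvable when `C(R)` and the induced automorphism group are. -/
theorem isSolvable_normalizer {A : Type*} [Group A] (R : Subgroup A)
    [Group.IsSolvable ↥(centralizer (R : Set A))]
    (hI : Group.IsSolvable R.normalizerMonoidHom.range) :
    Group.IsSolvable (normalizer (R : Set A)) := by
  haveI : Group.IsSolvable ↥((centralizer (R : Set A)).subgroupOf (normalizer (R : Set A))) :=
    Group.isSolvable_of_isSolvable_injective
      (f := (subgroupOfEquivOfLe (centralizer_le_normalizer _)).toMonoidHom) (MulEquiv.injective _)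
  exact Group.isSolvable_of_ker_le_range
    ((centralizer (R : Set A)).subgroupOf (normalizer (R : Set A))).subtype
    R.normalizerMonoidHom.rangeRestrict
    (by rw [MonoidHom.ker_rangeRestrict, normalizerMonoidHom_ker, range_subtype])

theorem isSolvable_of_isCyclic {A : Type*} [Group A] (H : Subgroup A) [IsCyclic H] :
    Group.IsSolvable H :=
  letI : CommGroup H := IsCyclic.commGroup
  inferInstance

theorem isSolvable_mulAut_of_isCyclic (R : Type*) [Group R] [IsCyclic R] :
    Group.IsSolvable (MulAut R) := by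
  letI : CommGroup (MulAut R) :=
    { (inferInstance : Group (MulAut R)) with
      mul_comm := fun φ ψ => MulEquiv.ext fun x => by
        obtain ⟨m, hm⟩ := MonoidHom.map_cyclic φ.toMonoidHom
        obtain ⟨k, hk⟩ := MonoidHom.map_cyclic ψ.toMonoidHom
        show φ.toMonoidHom (ψ.toMonoidHom x) = ψ.toMonoidHom (φ.toMonoidHom x)
        rw [hk x, hm x, hm, hk, ← zpow_mul, ← zpow_mul, mul_comm] }
  infer_instance

/-- An invariant subgroup is a union of orbits. -/
theorem dvd_card_sub_one {m : ℕ} (R : Subgroup (MulAut V))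
    (horb : ∀ v : V, v ≠ 1 → m ∣ Nat.card (MulAction.orbit R v))
    (W : Subgroup V) (hW : ∀ φ ∈ R, ∀ w ∈ W, φ w ∈ W) : m ∣ Nat.card W - 1 := by
  classical
  let E := {w : V // w ∈ W ∧ w ≠ 1}
  letI : MulAction R E :=
    { smul := fun φ e => ⟨(φ : MulAut V) e.1, hW _ φ.2 _ e.2.1, fun h =>
        e.2.2 ((φ : MulAut V).injective (h.trans (map_one (φ : MulAut V)).symm))⟩
      one_smul := fun _ => rfl
      mul_smul := fun _ _ _ => rfl }
  have hE : Nat.card E = Nat.card W - 1 := by
    have h1 : Nat.card E = ((W : Set V) \ {1}).ncard := rfl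
    rw [h1, Set.ncard_sdiff_singleton_of_mem W.one_mem]
    rfl
  rw [← hE, Nat.card_congr (MulAction.selfEquivSigmaOrbits R E)]
  haveI := Fintype.ofFinite (MulAction.orbitRel.Quotient R E)
  rw [Nat.card_sigma]
  refine Finset.dvd_sum fun ω _ => ?_
  refine (horb _ (Quotient.out ω).2.2).trans (dvd_of_eq ?_)
  have : MulAction.orbit R (Quotient.out ω).1 = Subtype.val '' MulAction.orbit R (Quotient.out ω) := by
    ext v
    constructor
    · rintro ⟨φ, rfl⟩
      exact ⟨φ • Quotient.out ω, ⟨φ, rfl⟩, rfl⟩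
    · rintro ⟨_, ⟨φ, rfl⟩, rfl⟩
      exact ⟨φ, rfl⟩
  rw [this]
  exact Nat.card_image_of_injective Subtype.val_injective _

/-- Orbits of length divisible by a primitive divisor force irreducibility. -/
theorem irreducible_of_orbits {n m : ℕ} (hV : Nat.card V = 2 ^ n)
    (hprim : ∀ k, 0 < k → k < n → ¬ m ∣ 2 ^ k - 1) (R : Subgroup (MulAut V))
    (horb : ∀ v : V, v ≠ 1 → m ∣ Nat.card (MulAction.orbit R v))
    (W : Subgroup V) (hW : ∀ φ ∈ R, ∀ w ∈ W, φ w ∈ W) : W = ⊥ ∨ W = ⊤ := by
  obtain ⟨k, hkn, hk⟩ := (Nat.dvd_prime_pow Nat.prime_two).1 (hV ▸ W.card_subgroup_dvd_card)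
  rcases Nat.eq_zero_or_pos k with h0 | h0
  · exact Or.inl (W.eq_bot_of_card_eq (by rw [hk, h0, pow_zero]))
  rcases lt_or_eq_of_le hkn with hlt | heq
  · exact absurd (hk ▸ dvd_card_sub_one R horb W hW) (hprim k h0 hlt)
  · exact Or.inr (W.eq_top_of_card_eq (by rw [hk, heq, hV]))

/-- The case of a primitive prime. -/
theorem isSolvable_normalizer_of_prime [Nontrivial V] {n r : ℕ} [hr : Fact r.Prime]
    (hV : Nat.card V = 2 ^ n) (hprim : ∀ k, 0 < k → k < n → ¬ r ∣ 2 ^ k - 1)
    (R : Subgroup (MulAut V)) (hR : IsPGroup r R)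
    (horb : ∀ v : V, v ≠ 1 → r ∣ Nat.card (MulAction.orbit R v)) :
    Group.IsSolvable (normalizer (R : Set (MulAut V))) := by
  classical
  have hirr := irreducible_of_orbits hV hprim R horb
  haveI : Nontrivial R := by
    obtain ⟨v, hv⟩ := exists_ne (1 : V)
    by_contra h
    rw [not_nontrivial_iff_subsingleton] at h
    have : Nat.card (MulAction.orbit R v) ≤ 1 := by
      rw [Finite.card_le_one_iff_subsingleton]
      exact ⟨fun ⟨_, a, ha⟩ ⟨_, c, hc⟩ => Subtype.ext
        (ha.symm.trans ((congrArg (fun g : R => g • v) (Subsingleton.elim a c)).trans hc))⟩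
    have h2 := horb v hv
    have h3 : 0 < Nat.card (MulAction.orbit R v) :=
      Nat.card_pos_iff.2 ⟨⟨⟨v, MulAction.mem_orbit_self v⟩⟩, inferInstance⟩
    have := Nat.le_of_dvd h3 h2
    have := hr.out.two_le
    omega
  haveI := hR.center_nontrivial
  obtain ⟨z, hz⟩ := exists_prime_orderOf_dvd_card' (G := Subgroup.center R) r (by
    obtain ⟨k, hk, hc⟩ := (hR.to_subgroup (Subgroup.center R)).nontrivial_iff_card.1 inferInstance
    rw [hc]; exact dvd_pow_self r hk.ne')
  set x : MulAut V := ((z : R) : MulAut V) with hx'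
  have hx : orderOf x = r := by rw [hx', orderOf_coe, orderOf_coe, hz]
  have hxc : ∀ φ ∈ R, φ * x = x * φ := fun φ hφ =>
    congrArg Subtype.val (Subgroup.mem_center_iff.1 z.2 ⟨φ, hφ⟩)
  have hfix : ∀ v : V, x v = v → v = 1 := by
    let W : Subgroup V :=
      { carrier := {v | x v = v}
        one_mem' := map_one x
        mul_mem' := fun {a b} (ha : x a = a) (hb : x b = b) => show x (a * b) = a * b by
          rw [map_mul, ha, hb]
        inv_mem' := fun {a} (ha : x a = a) => show x a⁻¹ = a⁻¹ by rw [map_inv, ha] }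
    rcases hirr W (fun φ hφ w (hw : x w = w) => show x (φ w) = φ w by
      rw [← MulAut.mul_apply, ← hxc φ hφ, MulAut.mul_apply, hw]) with h | h
    · intro v hv
      exact mem_bot.1 (h ▸ (show v ∈ W from hv))
    · exact absurd (MulEquiv.ext fun v => (show v ∈ W by rw [h]; trivial) : x = 1)
        (fun h1 => hr.out.ne_one (by rw [← hx, h1, orderOf_one]))
  have hirrx : ∀ W : Subgroup V, (∀ φ ∈ ({x} : Set (MulAut V)), ∀ w ∈ W, φ w ∈ W) →
      W = ⊥ ∨ W = ⊤ := by
    intro W hW
    refine irreducible_of_orbits hV hprim (zpowers x) (fun v hv => ?_) W fun φ hφ w hw => ?_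
    · have h := (IsPGroup.of_card (n := 1) (p := r) (G := zpowers x) (by
        rw [Nat.card_zpowers, hx, pow_one])).card_orbit v
      obtain ⟨k, hk⟩ := h
      rcases Nat.eq_zero_or_pos k with rfl | hk0
      · rw [pow_zero] at hk
        haveI : Subsingleton (MulAction.orbit (zpowers x) v) := Finite.card_le_one_iff_subsingleton.1 hk.le
        exact absurd (congrArg Subtype.val (Subsingleton.elim
          (⟨x v, ⟨⟨x, mem_zpowers x⟩, rfl⟩⟩ : MulAction.orbit (zpowers x) v)
          ⟨v, MulAction.mem_orbit_self v⟩)) (fun e => hv (hfix v e))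
      · rw [hk]; exact dvd_pow_self r hk0.ne'
    · obtain ⟨k, rfl⟩ := (isOfFinOrder_of_finite x).mem_powers_iff_mem_zpowers.2 hφ
      clear hφ
      induction k with
      | zero => exact hw
      | succ k ih => simp only [pow_succ', MulAut.mul_apply]; exact hW x rfl _ ih
  haveI := isCyclic_centralizer ({x} : Set (MulAut V)) hirrx
  have hRle : R ≤ centralizer ({x} : Set (MulAut V)) := fun φ hφ =>
    mem_centralizer_singleton_iff.2 (hxc φ hφ)
  haveI : IsCyclic R := isCyclic_of_injective (inclusion hRle) (inclusion_injective hRle)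
  haveI := isCyclic_centralizer (R : Set (MulAut V)) hirr
  haveI := isSolvable_of_isCyclic (centralizer (R : Set (MulAut V)))
  haveI := isSolvable_mulAut_of_isCyclic R
  exact isSolvable_normalizer R inferInstance

/-- The case `n = 6`. -/
theorem isSolvable_normalizer_six [Nontrivial V] (hexp : ∀ v : V, v ^ 2 = 1)
    (hV : Nat.card V = 2 ^ 6) (R : Subgroup (MulAut V)) (hR : IsPGroup 3 R)
    (horb : ∀ v : V, v ≠ 1 → 9 ∣ Nat.card (MulAction.orbit R v)) :
    Group.IsSolvable (normalizer (R : Set (MulAut V))) := by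
  classical
  haveI : Fact (Nat.Prime 2) := ⟨Nat.prime_two⟩
  haveI : Fact (Nat.Prime 3) := ⟨Nat.prime_three⟩
  have hirr := irreducible_of_orbits hV (fun k h0 h6 => by interval_cases k <;> norm_num) R horb
  haveI := isCyclic_centralizer (R : Set (MulAut V)) hirr
  haveI := isSolvable_of_isCyclic (centralizer (R : Set (MulAut V)))
  by_cases hab : IsMulCommutative R
  · have hRle : R ≤ centralizer (R : Set (MulAut V)) := fun a ha =>
      mem_centralizer_iff.2 fun c hc =>
        congrArg Subtype.val (hab.is_comm.comm (⟨c, hc⟩ : R) ⟨a, ha⟩)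
    haveI : IsCyclic R := isCyclic_of_injective (inclusion hRle) (inclusion_injective hRle)
    haveI := isSolvable_mulAut_of_isCyclic R
    exact isSolvable_normalizer R inferInstance
  haveI := hR.isNilpotent
  have hG : Nat.card (MulAut V) = 2 ^ 15 * 3 ^ 4 * (5 * 7 ^ 2 * 31) := by
    rw [GroupStructure3.FrattiniAut.card_mulAut_elementary hV hexp]
    simp [Finset.prod_range_succ]
  obtain ⟨m, hm⟩ := IsPGroup.iff_card.1 hR
  have hm4 : m ≤ 4 := by
    have h := (hm ▸ R.card_subgroup_dvd_card : 3 ^ m ∣ _)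
    rw [hG] at h
    have h2 : 3 ^ m ∣ 3 ^ 4 := by
      refine ((Nat.Coprime.pow m 15 (by norm_num : Nat.Coprime 3 2)).dvd_of_dvd_mul_left ?_)
      exact (((Nat.Coprime.pow_left _ (by norm_num : Nat.Coprime 3 (5 * 7 ^ 2 * 31))).dvd_of_dvd_mul_right h))
    exact (Nat.pow_dvd_pow_iff_le_right (by norm_num)).1 h2
  obtain ⟨s, hsm, hs⟩ := (Nat.dvd_prime_pow Nat.prime_three).1 (hm ▸ (frattini R).index_dvd_card)
  have hs3 : s ≤ 3 := by
    by_contra h
    refine hab ⟨⟨fun a c => ?_⟩⟩
    have hF : frattini R = ⊥ := by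
      refine eq_bot_of_card_eq _ ?_
      have h1 := (frattini R).card_mul_index
      rw [hs, hm, show s = m by omega] at h1
      exact Nat.eq_of_mul_eq_mul_right (pow_pos (by norm_num : 0 < 3) m) (h1.trans (one_mul _).symm)
    have h2 : ⁅a, c⁆ ∈ frattini R := Coprime.commutator_le_frattini R
      (commutator_mem_commutator (mem_top a) (mem_top c))
    rw [hF, mem_bot] at h2
    exact commutatorElement_eq_one_iff_mul_comm.1 h2
  have hA := GroupStructure3.FrattiniAut.card_mulAut_dvd hm hs
  set I := R.normalizerMonoidHom.range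
  have h1 : Nat.card I ∣ 2 ^ 15 * 3 ^ 4 * (5 * 7 ^ 2 * 31) := by
    rw [← hG]
    exact (Subgroup.card_range_dvd _).trans (card_subgroup_dvd_card _)
  have h2 : Nat.card I ∣ 3 ^ (s * (m - s)) * (2 ^ 5 * 3 ^ 3 * 13) := by
    refine (I.card_subgroup_dvd_card.trans hA).trans (Nat.mul_dvd_mul_left _ ?_)
    interval_cases s <;> norm_num [Finset.prod_range_succ]
  have hco : (Nat.card I).Coprime 13 :=
    Nat.Coprime.coprime_dvd_left h1 (by norm_num)
  rw [← mul_assoc, ← mul_assoc] at h2
  have h3 : Nat.card I ∣ 2 ^ 5 * 3 ^ (s * (m - s) + 3) := by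
    refine (hco.dvd_of_dvd_mul_right h2).trans (dvd_of_eq ?_)
    rw [pow_add]; ring
  obtain ⟨d, e, hd, he, hde⟩ := Nat.dvd_mul.1 h3
  obtain ⟨i, -, rfl⟩ := (Nat.dvd_prime_pow Nat.prime_two).1 hd
  obtain ⟨j, -, rfl⟩ := (Nat.dvd_prime_pow Nat.prime_three).1 he
  exact isSolvable_normalizer R
    (Characters.burnside_pa_qb Nat.prime_two Nat.prime_three hde.symm)

/-- A subgroup normalizing a transitive group and meeting it in a solvable group is solvable. -/
theorem isSolvable_of_transitive (hexp : ∀ v : V, v ^ 2 = 1) (L X : Subgroup (MulAut V))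
    (hX : X ≤ normalizer (L : Set (MulAut V)))
    (htrans : ∀ v w : V, v ≠ 1 → w ≠ 1 → ∃ l ∈ L, l v = w)
    (hXL : Group.IsSolvable ↥(X ⊓ L)) : Group.IsSolvable X := by
  classical
  haveI : Fact (Nat.Prime 2) := ⟨Nat.prime_two⟩
  obtain ⟨n, hn⟩ := IsPGroup.iff_card.1 (fun v : V => ⟨1, by rw [pow_one]; exact hexp v⟩ : IsPGroup 2 V)
  by_cases hn1 : n ≤ 1
  · have h : Nat.card (MulAut V) = 1 := by
      rw [GroupStructure3.FrattiniAut.card_mulAut_elementary hn hexp]
      interval_cases n <;> simp
    haveI := (Finite.card_le_one_iff_subsingleton.1 h.le)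
    infer_instance
  haveI : Nontrivial V := Finite.one_lt_card_iff_nontrivial.1 (by
    rw [hn]; exact Nat.one_lt_two_pow (by omega))
  -- the primitive prime power
  obtain ⟨r, a, hrp, hdvd, hsolv⟩ : ∃ r a : ℕ, ∃ _ : Fact r.Prime, r ^ a ∣ 2 ^ n - 1 ∧
      ∀ R : Subgroup (MulAut V), IsPGroup r R →
        (∀ v : V, v ≠ 1 → r ^ a ∣ Nat.card (MulAction.orbit R v)) →
        Group.IsSolvable (normalizer (R : Set (MulAut V))) := by
    by_cases h6 : n = 6
    · exact ⟨3, 2, ⟨Nat.prime_three⟩, by rw [h6]; norm_num, fun R hR horb =>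
        isSolvable_normalizer_six hexp (h6 ▸ hn) R hR horb⟩
    · obtain ⟨r, hr, hd, hp⟩ := CharP.Zsigmondy.zsigmondy (a := 2) (n := n) one_lt_two (by omega)
        (fun h => h6 h.2) (by
          rintro ⟨-, m, hm⟩
          rcases m with _ | m
          · norm_num at hm
          · rw [pow_succ] at hm; omega)
      exact ⟨r, 1, ⟨hr⟩, by rwa [pow_one], fun R hR horb =>
        haveI : Fact r.Prime := ⟨hr⟩
        isSolvable_normalizer_of_prime hn hp R hR (fun v hv => pow_one r ▸ horb v hv)⟩
  haveI := hrp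
  set M := normalizer (L : Set (MulAut V))
  set L' := L.subgroupOf M
  haveI : L'.Normal := normal_subgroupOf_of_le_normalizer le_rfl
  obtain ⟨P⟩ : Nonempty (Sylow r L') := Sylow.nonempty
  set R := ((P : Subgroup L').map L'.subtype).map M.subtype with hR'
  have hRp : IsPGroup r R := (P.isPGroup'.map _).map _
  have hRL : R ≤ L := by
    rintro _ ⟨_, ⟨p, -, rfl⟩, rfl⟩
    exact p.2
  have hcR : Nat.card R = r ^ (Nat.card L).factorization r := by
    rw [hR', card_map_of_injective M.subtype_injective, card_map_of_injective L'.subtype_injective,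
      P.card_eq_multiplicity, Nat.card_congr (subgroupOfEquivOfLe (le_normalizer : L ≤ M)).toEquiv]
  have hNs := hsolv R hRp fun v hv => by
    have hLorb : MulAction.orbit L v = {w : V | w ≠ 1} := by
      ext w
      constructor
      · rintro ⟨l, rfl⟩ h
        exact hv ((l : MulAut V).injective (h.trans (map_one _).symm))
      · intro hw
        obtain ⟨l, hl, e⟩ := htrans v w hv hw
        exact ⟨⟨l, hl⟩, e⟩
    have hLc : (2 ^ n - 1) * Nat.card (MulAction.stabilizer L v) = Nat.card L := by
      rw [← (MulAction.stabilizer L v).index_mul_card, MulAction.index_stabilizer, hLorb,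
        show {w : V | w ≠ 1} = Set.univ \ {1} by ext; simp,
        Set.ncard_sdiff_singleton_of_mem (Set.mem_univ _), Set.ncard_univ, hn]
    have hRc : Nat.card (MulAction.orbit R v) * Nat.card (MulAction.stabilizer R v) = Nat.card R := by
      rw [← (MulAction.stabilizer R v).index_mul_card, MulAction.index_stabilizer]
      rfl
    have hle : Nat.card (MulAction.stabilizer R v) ∣ Nat.card (MulAction.stabilizer L v) :=
      Subgroup.card_dvd_of_injective
        (({ toFun := fun s => ⟨⟨(s.1 : MulAut V), hRL s.1.2⟩, s.2⟩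
            map_one' := rfl
            map_mul' := fun _ _ => rfl } :
          MulAction.stabilizer R v →* MulAction.stabilizer L v))
        fun s t e => Subtype.ext (Subtype.ext (congrArg (fun y => ((y.1 : L) : MulAut V)) e :))
    obtain ⟨k, hk⟩ := IsPGroup.iff_card.1 (hRp.to_subgroup (MulAction.stabilizer R v))
    have hdiv : r ^ a * Nat.card (MulAction.stabilizer R v) ∣ Nat.card R := by
      rw [hk, ← pow_add, hcR]
      refine pow_dvd_pow r ((hrp.out.pow_dvd_iff_le_factorization Nat.card_pos.ne').1 ?_)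
      rw [pow_add, ← hk, ← hLc]
      exact mul_dvd_mul hdvd hle
    rw [← hRc] at hdiv
    exact Nat.dvd_of_mul_dvd_mul_right Nat.card_pos hdiv
  set NM := (normalizer (R : Set (MulAut V))).subgroupOf M
  haveI : Group.IsSolvable (normalizer (R : Set (MulAut V))) := hNs
  haveI : Group.IsSolvable NM := Group.isSolvable_of_isSolvable_injective
    (f := ({ toFun := fun y => ⟨((y : M) : MulAut V), y.2⟩
             map_one' := rfl
             map_mul' := fun _ _ => rfl } : NM →* normalizer (R : Set (MulAut V))))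
    fun y z e => Subtype.ext (Subtype.ext (congrArg Subtype.val e :))
  have htop : NM ⊔ L' = ⊤ := by
    refine top_le_iff.1 ((Sylow.normalizer_sup_eq_top P).ge.trans (sup_le_sup_right ?_ _))
    intro g hg
    exact le_normalizer_map M.subtype ⟨g, hg, rfl⟩
  set q := QuotientGroup.mk' L'
  have hmap : NM.map q = ⊤ := by
    have h := congrArg (Subgroup.map q) htop
    rwa [Subgroup.map_sup, Subgroup.map_top_of_surjective q (QuotientGroup.mk'_surjective _),
      (Subgroup.map_eq_bot_iff L').2 (QuotientGroup.ker_mk' L').ge, sup_bot_eq] at h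
  haveI : Group.IsSolvable (M ⧸ L') := by
    refine Group.isSolvable_of_surjective (f := q.comp NM.subtype) fun y => ?_
    obtain ⟨g, hg, e⟩ : y ∈ NM.map q := by rw [hmap]; trivial
    exact ⟨⟨g, hg⟩, e⟩
  exact Group.isSolvable_of_ker_le_range (inclusion (inf_le_left : X ⊓ L ≤ X))
    (q.comp (inclusion hX)) fun y hy => by
      rw [MonoidHom.mem_ker] at hy
      exact ⟨⟨y, y.2, mem_subgroupOf.1 ((QuotientGroup.eq_one_iff (N := L') (inclusion hX y)).1 hy)⟩, rfl⟩

end Cfsg.Agent.SylowAutSolvable.TransitiveLinear
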