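import Cfsg.Agent.Lib.SylowAutSolvable.Main
import Cfsg.Agent.Lib.SylowAutSolvable.FixInvolutions
import Cfsg.Agent.Lib.SylowAutSolvable.TransitiveLinear

/-!
`Out(G)` is solvable if the Sylow 2-subgroup is 2-generated, or 3-generated with a non-trivial odd
automorphism induced by `N(S)`, or has commuting involutions all conjugate in `G`.
-/

set_option autoImplicit false
set_option linter.style.haveILetI false
set_option linter.unusedSectionVars false

namespace Cfsg.Agent.SylowAutSolvable.Ranks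

open Subgroup
open Cfsg.Agent.CharP

universe u

variable {A : Type u} [Group A] [Finite A]

/-- A group with a normal 2-subgroup of odd index is solvable. -/
theorem isSolvable_of_two_closed
    (hodd : ∀ (H : Type u) [Group H] [Finite H], Odd (Nat.card H) → Group.IsSolvable H)
    {T H : Subgroup A} (hT : IsPGroup 2 T) (_hTH : T ≤ H) (hn : H ≤ normalizer (T : Set A))
    (hidx : ¬ 2 ∣ T.relIndex H) : Group.IsSolvable H := by
  haveI : Fact (Nat.Prime 2) := ⟨Nat.prime_two⟩
  haveI : (T.subgroupOf H).Normal := normal_subgroupOf_of_le_normalizer hn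
  haveI : Group.IsNilpotent ↥(T.subgroupOf H) := (hT.comap_subtype (K := H)).isNilpotent
  haveI : Group.IsSolvable ↥(T.subgroupOf H) := inferInstance
  haveI : Group.IsSolvable (H ⧸ T.subgroupOf H) := hodd _ (by
    rw [← Subgroup.index_eq_card, Nat.odd_iff]
    have : ¬ 2 ∣ (T.subgroupOf H).index := hidx
    omega)
  exact Group.isSolvable_of_ker_le_range (T.subgroupOf H).subtype
    (QuotientGroup.mk' (T.subgroupOf H))
    (by rw [QuotientGroup.ker_mk', range_subtype])

theorem relIndex_map_dvd {B : Type*} [Group B] (f : A →* B) {H K : Subgroup A} (hHK : H ≤ K) :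
    (H.map f).relIndex (K.map f) ∣ H.relIndex K := by
  have h : (H.subgroupOf K).map (f.subgroupMap K) = (H.map f).subgroupOf (K.map f) := by
    ext y
    constructor
    · rintro ⟨a, ha, rfl⟩
      exact ⟨a, ha, rfl⟩
    · rintro ⟨a, ha, e⟩
      exact ⟨⟨a, hHK ha⟩, ha, Subtype.ext e⟩
  show ((H.map f).subgroupOf (K.map f)).index ∣ (H.subgroupOf K).index
  rw [← h]
  exact index_map_dvd _ (f.subgroupMap_surjective K)

/-- A finite abelian group of exponent two generated by a finset has at most `2 ^ k` elements. -/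
theorem card_closure_le {Q : Type*} [Group Q] [Finite Q] (hexp : ∀ x : Q, x * x = 1)
    (hc : ∀ x y : Q, x * y = y * x) (s : List Q) :
    Nat.card (closure {x | x ∈ s}) ≤ 2 ^ s.length := by
  induction s with
  | nil => simp
  | cons a s ih =>
    have hset : {x | x ∈ a :: s} = {a} ∪ {x : Q | x ∈ s} := by ext; simp
    rw [hset, Subgroup.closure_union, ← zpowers_eq_closure, List.length_cons, pow_succ']
    haveI : (closure {x : Q | x ∈ s}).Normal :=
      ⟨fun n hn g => by rw [hc g n, mul_inv_cancel_right]; exact hn⟩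
    have h := Cores.card_sup_mul_card_inf (zpowers a) (closure {x : Q | x ∈ s})
    have h1 : Nat.card (zpowers a) ≤ 2 := by
      rw [Nat.card_zpowers]
      exact orderOf_le_of_pow_eq_one (by norm_num) (by rw [pow_two]; exact hexp a)
    calc Nat.card ↥(zpowers a ⊔ closure {x : Q | x ∈ s})
        ≤ _ * Nat.card ↥(zpowers a ⊓ closure {x : Q | x ∈ s}) :=
          Nat.le_mul_of_pos_right _ Nat.card_pos
      _ = _ := h
      _ ≤ 2 * 2 ^ s.length := Nat.mul_le_mul h1 ih

/-- The automorphism group of a 2-group generated by few elements. -/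
theorem card_mulAut_dvd_of_generated {P : Type u} [Group P] [Finite P] (hP : IsPGroup 2 P)
    (s : List P) (hs : closure {x | x ∈ s} = ⊤) :
    (s.length ≤ 2 → ∃ k, Nat.card (MulAut P) ∣ 2 ^ k * 3) ∧
      (s.length ≤ 3 → ∃ k, Nat.card (MulAut P) ∣ 2 ^ k * (3 * 7)) := by
  haveI : Fact (Nat.Prime 2) := ⟨Nat.prime_two⟩
  haveI := hP.isNilpotent
  obtain ⟨n, hn⟩ := IsPGroup.iff_card.1 hP
  obtain ⟨r, -, hr⟩ := (Nat.dvd_prime_pow Nat.prime_two).1 (hn ▸ (frattini P).index_dvd_card)
  have hexp : ∀ x : P ⧸ frattini P, x * x = 1 := fun x => by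
    induction x using QuotientGroup.induction_on with | H y => ?_
    rw [← QuotientGroup.mk_mul, QuotientGroup.eq_one_iff, ← pow_two]
    exact GroupStructure3.FrattiniAut.pow_mem_frattini hP y
  have hc : ∀ x y : P ⧸ frattini P, x * y = y * x := fun a b => by
    calc a * b = (a * b)⁻¹ := eq_inv_of_mul_eq_one_left (hexp _)
      _ = b * a := by
        rw [mul_inv_rev, inv_eq_of_mul_eq_one_left (hexp b), inv_eq_of_mul_eq_one_left (hexp a)]
  have hle : 2 ^ r ≤ 2 ^ s.length := by
    have h := card_closure_le hexp hc (s.map (QuotientGroup.mk' (frattini P)))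
    have htop : closure {x | x ∈ s.map (QuotientGroup.mk' (frattini P))} = ⊤ := by
      rw [show {x | x ∈ s.map (QuotientGroup.mk' (frattini P))}
          = QuotientGroup.mk' (frattini P) '' {x | x ∈ s} by ext; simp,
        ← MonoidHom.map_closure, hs,
        Subgroup.map_top_of_surjective _ (QuotientGroup.mk'_surjective _)]
    rw [htop, Subgroup.card_top, ← Subgroup.index_eq_card, hr, List.length_map] at h
    exact h
  have hrs : r ≤ s.length := (Nat.pow_le_pow_iff_right (by norm_num)).1 hle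
  have h := GroupStructure3.FrattiniAut.card_mulAut_dvd hn hr
  refine ⟨fun h2 => ⟨r * (n - r) + 1, h.trans ?_⟩, fun h3 => ⟨r * (n - r) + 3, h.trans ?_⟩⟩
  · rw [pow_succ, mul_assoc]
    refine Nat.mul_dvd_mul_left _ ?_
    have : r ≤ 2 := by omega
    interval_cases r <;> norm_num [Finset.prod_range_succ]
  · rw [pow_add, mul_assoc]
    refine Nat.mul_dvd_mul_left _ ?_
    have : r ≤ 3 := by omega
    interval_cases r <;> norm_num [Finset.prod_range_succ]

section

variable {G : Type u} [Group G] [Finite G]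
variable (hodd : ∀ (H : Type u) [Group H] [Finite H], Odd (Nat.card H) → Group.IsSolvable H)
variable (hZ : center G = ⊥) (hO : Cfsg.oddCore G = ⊥) (S : Sylow 2 G)
include hodd hZ hO

theorem out_of_two_generated
    (h : ∃ a b : ↥(S : Subgroup G), closure ({a, b} : Set ↥(S : Subgroup G)) = ⊤) :
    Group.IsSolvable (Cfsg.Out G) := by
  obtain ⟨a, b, hab⟩ := h
  obtain ⟨k, hk⟩ := (card_mulAut_dvd_of_generated S.isPGroup' [a, b] (by
    rw [← hab]; congr 1; ext; simp)).1 le_rfl
  obtain ⟨d, e, hd, he, hde⟩ := Nat.dvd_mul.1 hk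
  obtain ⟨i, -, rfl⟩ := (Nat.dvd_prime_pow Nat.prime_two).1 hd
  obtain ⟨j, -, rfl⟩ := (Nat.dvd_prime_pow Nat.prime_three).1 (by rwa [pow_one] : e ∣ 3 ^ 1)
  exact isSolvable_out_of_mulAut hodd hZ hO S
    (Characters.burnside_pa_qb Nat.prime_two Nat.prime_three hde.symm)

local notation "T'" => Subgroup.map MulAut.conj (S : Subgroup G)

theorem isSolvable_normalizer_inf_inn :
    Group.IsSolvable ↥(normalizer ((T' : Subgroup (MulAut G)) : Set (MulAut G)) ⊓ Cfsg.Inn G) := by
  haveI : Fact (Nat.Prime 2) := ⟨Nat.prime_two⟩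
  have hs := isSylIn_inn hZ S
  refine isSolvable_of_two_closed hodd (S.isPGroup'.map _) (le_inf le_normalizer hs.le) inf_le_left
    fun h => hs.not_dvd (h.trans ?_)
  exact Dvd.intro _ (relIndex_mul_relIndex _ _ _ (le_inf le_normalizer hs.le) inf_le_right)

theorem out_of_three_generated
    (h : ∃ a b c : ↥(S : Subgroup G), closure ({a, b, c} : Set ↥(S : Subgroup G)) = ⊤)
    (hg : ∃ g ∈ normalizer ((S : Subgroup G) : Set G), Odd (orderOf g) ∧
      g ∉ centralizer ((S : Subgroup G) : Set G)) :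
    Group.IsSolvable (Cfsg.Out G) := by
  haveI : Fact (Nat.Prime 2) := ⟨Nat.prime_two⟩
  haveI : (Cfsg.Inn G).Normal := inn_normal
  obtain ⟨a, b, c, habc⟩ := h
  obtain ⟨k, hk⟩ := (card_mulAut_dvd_of_generated S.isPGroup' [a, b, c] (by
    rw [← habc]; congr 1; ext; simp)).2 le_rfl
  set T := (T' : Subgroup (MulAut G))
  set N := normalizer (T : Set (MulAut G))
  let f := T.normalizerMonoidHom
  set I := f.range
  let D : Subgroup N := (Cfsg.Inn G).subgroupOf N
  haveI hDn : D.Normal := inferInstance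
  haveI hDs : Group.IsSolvable D := by
    haveI := isSolvable_normalizer_inf_inn hodd hZ hO S
    exact Group.isSolvable_of_isSolvable_injective
      (f := ({ toFun := fun d => ⟨((d : N) : MulAut G), (d : N).2, d.2⟩
               map_one' := rfl
               map_mul' := fun _ _ => rfl } : D →* ↥(N ⊓ Cfsg.Inn G)))
      fun x y e => Subtype.ext (Subtype.ext (congrArg Subtype.val e :))
  let L := D.map f.rangeRestrict
  haveI : L.Normal := hDn.map _ f.rangeRestrict_surjective
  haveI : Group.IsSolvable L :=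
    Group.isSolvable_of_surjective (f.rangeRestrict.subgroupMap_surjective D)
  obtain ⟨g, hgN, hgo, hgC⟩ := hg
  have hgT : MulAut.conj g ∈ N := le_normalizer_map MulAut.conj ⟨g, hgN, rfl⟩
  set l : I := f.rangeRestrict ⟨MulAut.conj g, hgT⟩
  have hlL : l ∈ L := ⟨_, ⟨g, rfl⟩, rfl⟩
  have hl1 : l ≠ 1 := fun h => hgC (mem_centralizer_iff.2 fun s hs => by
    have h1 : (⟨MulAut.conj g, hgT⟩ : N) ∈ f.ker := by
      rw [MonoidHom.mem_ker]; exact congrArg Subtype.val h
    rw [normalizerMonoidHom_ker, mem_subgroupOf, mem_centralizer_iff] at h1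
    refine conj_injective hZ ?_
    rw [map_mul, map_mul]
    exact h1 _ ⟨s, hs, rfl⟩)
  have hlo : orderOf l ∣ orderOf g :=
    (orderOf_map_dvd f.rangeRestrict _).trans (by
      rw [← orderOf_coe]; exact orderOf_map_dvd _ g)
  obtain ⟨p, hp, hpl⟩ := Nat.exists_prime_and_dvd (n := orderOf l) (by rwa [Ne, orderOf_eq_one_iff])
  have hp2 : p ≠ 2 := by
    rintro rfl
    exact (Nat.odd_iff.1 hgo |> fun e => by
      have := hpl.trans hlo
      omega)
  have hpL : p ∣ Nat.card L := hpl.trans (Subgroup.orderOf_dvd_natCard L hlL)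
  let e := (S : Subgroup G).equivMapOfInjective MulAut.conj (conj_injective hZ)
  have hI : Nat.card I ∣ 2 ^ k * (3 * 7) := by
    refine I.card_subgroup_dvd_card.trans (dvd_trans (dvd_of_eq ?_) hk)
    exact Nat.card_congr (MulAut.congr e).symm.toEquiv
  rw [← L.card_mul_index] at hI
  have hp37 : p = 3 ∨ p = 7 := by
    rcases (Nat.Prime.dvd_mul hp).1 (hpL.trans ((dvd_mul_right _ _).trans hI)) with h2 | h2
    · exact absurd ((Nat.prime_dvd_prime_iff_eq hp Nat.prime_two).1 (hp.dvd_of_dvd_pow h2)) hp2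
    · rcases (Nat.Prime.dvd_mul hp).1 h2 with h3 | h3
      · exact Or.inl ((Nat.prime_dvd_prime_iff_eq hp Nat.prime_three).1 h3)
      · exact Or.inr ((Nat.prime_dvd_prime_iff_eq hp (by norm_num)).1 h3)
  have hidx : p * L.index ∣ 2 ^ k * (3 * 7) := (Nat.mul_dvd_mul_right hpL _).trans hI
  haveI : Group.IsSolvable (I ⧸ L) := by
    have key : ∀ q : ℕ, q.Prime → L.index ∣ 2 ^ k * q → Group.IsSolvable (I ⧸ L) := by
      intro q hq hd
      obtain ⟨d, e', hd', he', hde⟩ := Nat.dvd_mul.1 hd
      obtain ⟨i, -, rfl⟩ := (Nat.dvd_prime_pow Nat.prime_two).1 hd'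
      obtain ⟨j, -, rfl⟩ := (Nat.dvd_prime_pow hq).1 (by rwa [pow_one] : e' ∣ q ^ 1)
      exact Characters.burnside_pa_qb Nat.prime_two hq (hde.trans L.index_eq_card).symm
    rcases hp37 with rfl | rfl
    · exact key 7 (by norm_num) (Nat.dvd_of_mul_dvd_mul_left (by norm_num : 0 < 3)
        (hidx.trans (dvd_of_eq (by ring))))
    · exact key 3 Nat.prime_three (Nat.dvd_of_mul_dvd_mul_left (by norm_num : 0 < 7)
        (hidx.trans (dvd_of_eq (by ring))))
  refine isSolvable_out hodd hZ hO S ?_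
  exact Group.isSolvable_of_ker_le_range L.subtype (QuotientGroup.mk' L)
    (by rw [QuotientGroup.ker_mk', range_subtype])

theorem out_of_conjugate_involutions 
    (hcomm : ∀ s ∈ S, ∀ t ∈ S, orderOf s = 2 → orderOf t = 2 → s * t = t * s)
    (hconj : ∀ s ∈ S, ∀ t ∈ S, orderOf s = 2 → orderOf t = 2 → ∃ g : G, g * s * g⁻¹ = t) :
    Group.IsSolvable (Cfsg.Out G) := by
  classical
  haveI : Fact (Nat.Prime 2) := ⟨Nat.prime_two⟩
  haveI : (Cfsg.Inn G).Normal := inn_normal
  have hc' : ∀ s ∈ S, ∀ t ∈ S, s * s = 1 → t * t = 1 → s * t = t * s := by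
    intro s hs t ht h1 h2
    by_cases e1 : s = 1
    · simp [e1]
    by_cases e2 : t = 1
    · simp [e2]
    exact hcomm s hs t ht (orderOf_eq_prime (by rw [pow_two, h1]) e1)
      (orderOf_eq_prime (by rw [pow_two, h2]) e2)
  let V : Subgroup G :=
    { carrier := {s | s ∈ (S : Subgroup G) ∧ s * s = 1}
      one_mem' := ⟨one_mem _, one_mul _⟩
      mul_mem' := fun {a b} ha hb => ⟨mul_mem ha.1 hb.1, by
        calc a * b * (a * b) = a * b * (b * a) := by rw [hc' a ha.1 b hb.1 ha.2 hb.2]
          _ = a * (b * b) * a := by group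
          _ = 1 := by rw [hb.2, mul_one, ha.2]⟩
      inv_mem' := fun {a} ha => by rw [inv_eq_of_mul_eq_one_left ha.2]; exact ha }
  have hVab : ∀ a ∈ V, ∀ b ∈ V, a * b = b * a := fun a ha b hb => hc' a ha.1 b hb.1 ha.2 hb.2
  -- `V` is weakly closed, so its normalizer fuses its involutions
  have hfus : ∀ s t : G, s ∈ V → s ≠ 1 → t ∈ V → t ≠ 1 →
      ∃ g ∈ normalizer (V : Set G), g * s * g⁻¹ = t := by
    intro s t hs hs1 ht ht1
    obtain ⟨g, hg⟩ := hconj s hs.1 t ht.1 (orderOf_eq_prime (by rw [pow_two, hs.2]) hs1)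
      (orderOf_eq_prime (by rw [pow_two, ht.2]) ht1)
    set C := centralizer ({t} : Set G)
    have hVC : V ≤ C := fun x hx => mem_centralizer_singleton_iff.2 (hVab x hx t ht)
    set W := V.map (MulAut.conj g).toMonoidHom with hW
    have hWC : W ≤ C := by
      rintro _ ⟨x, hx, rfl⟩
      refine mem_centralizer_singleton_iff.2 ?_
      show g * x * g⁻¹ * t = t * (g * x * g⁻¹)
      rw [← hg]
      have := hVab x hx s hs
      calc g * x * g⁻¹ * (g * s * g⁻¹) = g * (x * s) * g⁻¹ := by group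
        _ = g * (s * x) * g⁻¹ := by rw [this]
        _ = _ := by group
    have hV2 : IsPGroup 2 V := S.isPGroup'.to_le fun x hx => hx.1
    have hW2 : IsPGroup 2 W := hV2.map _
    obtain ⟨P, hP⟩ := (hV2.comap_subtype (K := C)).exists_le_sylow
    obtain ⟨P2, hP2⟩ := (hW2.comap_subtype (K := C)).exists_le_sylow
    obtain ⟨c, hc⟩ := MulAction.exists_smul_eq C P2 P
    obtain ⟨Q, hQ⟩ := (P.isPGroup'.map C.subtype).exists_le_sylow
    obtain ⟨x, hx⟩ := MulAction.exists_smul_eq G S Q
    -- every elementary subgroup of `Q` is in the conjugate of `V`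
    have hsub : ∀ y ∈ (Q : Subgroup G), y * y = 1 → y ∈ V.map (MulAut.conj x).toMonoidHom := by
      intro y hy hyy
      rw [← hx, Sylow.coe_subgroup_smul] at hy
      obtain ⟨z, hz, rfl⟩ := hy
      refine ⟨z, ⟨hz, (MulAut.conj x).injective ?_⟩, rfl⟩
      rw [map_mul, map_one]
      exact hyy
    have hcard : ∀ y : G, Nat.card (V.map (MulAut.conj y).toMonoidHom) = Nat.card V := fun y =>
      card_map_of_injective (MulAut.conj y).injective
    have hVx : V = V.map (MulAut.conj x).toMonoidHom := by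
      refine Subgroup.eq_of_le_of_card_ge (fun y hy => hsub y (hQ ?_) hy.2) (hcard x).le
      exact ⟨⟨y, hVC hy⟩, hP hy, rfl⟩
    have hWx : V.map (MulAut.conj ((c : G) * g)).toMonoidHom = V.map (MulAut.conj x).toMonoidHom := by
      refine Subgroup.eq_of_le_of_card_ge ?_ ((hcard x).trans (hcard _).symm).le
      rintro _ ⟨y, hy, rfl⟩
      refine hsub _ (hQ ?_) ?_
      · refine ⟨c * ⟨g * y * g⁻¹, hWC ⟨y, hy, rfl⟩⟩ * c⁻¹, ?_, by simp [mul_assoc]⟩
        rw [← hc, Sylow.coe_subgroup_smul]
        exact ⟨_, hP2 (mem_subgroupOf.2 ⟨y, hy, rfl⟩), rfl⟩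
      · show MulAut.conj _ y * MulAut.conj _ y = 1
        rw [← map_mul, hy.2, map_one]
    refine ⟨(c : G) * g, mem_normalizer_iff_map_conj_eq.2 (hWx.trans hVx.symm), ?_⟩
    have := mem_centralizer_singleton_iff.1 c.2
    calc (c : G) * g * s * ((c : G) * g)⁻¹ = c * (g * s * g⁻¹) * (c : G)⁻¹ := by group
      _ = t := by rw [hg, this, mul_inv_cancel_right]
  set T := (T' : Subgroup (MulAut G)) with hT
  set T0 := V.map MulAut.conj with hT0
  have hT0mem : ∀ φ ∈ T, φ * φ = 1 → φ ∈ T0 := by
    rintro _ ⟨s, hs, rfl⟩ h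
    exact ⟨s, ⟨hs, conj_injective hZ (by rw [map_mul, map_one]; exact h)⟩, rfl⟩
  have hT0T : T0 ≤ T := Subgroup.map_mono fun x hx => hx.1
  set N := normalizer (T : Set (MulAut G))
  set N0 := normalizer (T0 : Set (MulAut G))
  have hT0sq : ∀ φ ∈ T0, φ * φ = 1 := by
    rintro _ ⟨s, hs, rfl⟩
    rw [← map_mul, hs.2, map_one]
  have hNN : N ≤ N0 := by
    intro n hn
    rw [mem_normalizer_iff]
    intro φ
    constructor
    · intro hφ
      refine hT0mem _ ((mem_normalizer_iff.1 hn φ).1 (hT0T hφ)) ?_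
      calc n * φ * n⁻¹ * (n * φ * n⁻¹) = n * (φ * φ) * n⁻¹ := by group
        _ = 1 := by rw [hT0sq φ hφ]; group
    · intro hφ
      refine hT0mem _ ((mem_normalizer_iff.1 hn φ).2 (hT0T hφ)) ?_
      calc φ * φ = n⁻¹ * ((n * φ * n⁻¹) * (n * φ * n⁻¹)) * n := by group
        _ = 1 := by rw [hT0sq _ hφ]; group
  let f := T0.normalizerMonoidHom
  let D := N0 ⊓ Cfsg.Inn G
  let iD : D →* N0 := inclusion inf_le_left
  let L : Subgroup (MulAut T0) := (f.comp iD).range
  let X : Subgroup (MulAut T0) := (f.comp (inclusion hNN)).range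
  have hTD : T ≤ D := le_inf (le_normalizer.trans hNN) (map_le_range _ _)
  set Sb : Subgroup (MulAut T0) := (T.subgroupOf D).map (f.comp iD)
  have hXL : X ≤ normalizer (L : Set (MulAut T0)) := by
    rintro _ ⟨n, rfl⟩
    rw [mem_normalizer_iff_map_conj_eq]
    refine le_antisymm ?_ ?_
    · rintro _ ⟨_, ⟨d, rfl⟩, rfl⟩
      refine ⟨⟨(n : MulAut G) * d * (n : MulAut G)⁻¹,
        N0.mul_mem (N0.mul_mem (hNN n.2) d.2.1) (N0.inv_mem (hNN n.2)),
        inn_normal.conj_mem _ d.2.2 _⟩, ?_⟩
      show f (inclusion hNN n * iD d * (inclusion hNN n)⁻¹) = _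
      rw [map_mul, map_mul, map_inv]; rfl
    · rintro _ ⟨d, rfl⟩
      refine ⟨_, ⟨⟨(n : MulAut G)⁻¹ * d * (n : MulAut G),
        N0.mul_mem (N0.mul_mem (N0.inv_mem (hNN n.2)) d.2.1) (hNN n.2), ?_⟩, rfl⟩, ?_⟩
      · simpa using inn_normal.conj_mem _ d.2.2 (n : MulAut G)⁻¹
      · show f (inclusion hNN n) * f ((inclusion hNN n)⁻¹ * iD d * inclusion hNN n) *
          (f (inclusion hNN n))⁻¹ = f (iD d)
        rw [map_mul, map_mul, map_inv]; group
  have hXS : X ≤ normalizer (Sb : Set (MulAut T0)) := by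
    have key : ∀ n : N, Sb.map (MulAut.conj (f (inclusion hNN n))).toMonoidHom ≤ Sb := by
      rintro n _ ⟨_, ⟨d, hd, rfl⟩, rfl⟩
      have hmem : (n : MulAut G) * d * (n : MulAut G)⁻¹ ∈ T := (mem_normalizer_iff.1 n.2 _).1 hd
      refine ⟨⟨_, hTD hmem⟩, mem_subgroupOf.2 hmem, ?_⟩
      show f (inclusion hNN n * iD d * (inclusion hNN n)⁻¹) = _
      rw [map_mul, map_mul, map_inv]; rfl
    rintro _ ⟨n, rfl⟩
    rw [mem_normalizer_iff_map_conj_eq]
    exact Subgroup.eq_of_le_of_card_ge (key n)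
      (card_map_of_injective (MulAut.conj _).injective).ge
  haveI hT0c : IsMulCommutative T0 := ⟨⟨fun a b => Subtype.ext (by
    obtain ⟨_, x, hx, rfl⟩ := a
    obtain ⟨_, y, hy, rfl⟩ := b
    show MulAut.conj x * MulAut.conj y = MulAut.conj y * MulAut.conj x
    rw [← map_mul, ← map_mul, hVab x hx y hy])⟩⟩
  letI : CommGroup T0 := { (inferInstance : Group T0) with mul_comm := hT0c.is_comm.comm }
  haveI hXs : Group.IsSolvable X := by
    refine TransitiveLinear.isSolvable_of_transitive (fun v => Subtype.ext (by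
      rw [pow_two]; exact hT0sq _ v.2)) L X hXL ?_ ?_
    · rintro ⟨_, s, hs, rfl⟩ ⟨_, t, ht, rfl⟩ hv hw
      obtain ⟨g, hg, e⟩ := hfus s t hs (fun h => hv (Subtype.ext (by simp [h]))) ht
        (fun h => hw (Subtype.ext (by simp [h])))
      refine ⟨_, ⟨⟨MulAut.conj g, le_normalizer_map _ ⟨g, hg, rfl⟩, g, rfl⟩, rfl⟩, Subtype.ext ?_⟩
      show MulAut.conj g * MulAut.conj s * (MulAut.conj g)⁻¹ = MulAut.conj t
      rw [← map_inv, ← map_mul, ← map_mul, e]
    · set Y := L ⊓ normalizer (Sb : Set (MulAut T0))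
      have hSbL : Sb ≤ L := by rintro _ ⟨d, -, rfl⟩; exact ⟨d, rfl⟩
      have hY : Group.IsSolvable Y := by
        refine isSolvable_of_two_closed hodd ((S.isPGroup'.map _).comap_subtype.map _)
          (le_inf hSbL le_normalizer) inf_le_right fun h => ?_
        have h1 : 2 ∣ Sb.relIndex L := h.trans (Dvd.intro _ (relIndex_mul_relIndex Sb Y L (le_inf hSbL le_normalizer) inf_le_left))
        have h2 : Sb.relIndex L ∣ (T.subgroupOf D).relIndex ⊤ := by
          show ((T.subgroupOf D).map (f.comp iD)).relIndex (f.comp iD).range ∣ _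
          rw [MonoidHom.range_eq_map]
          exact relIndex_map_dvd _ le_top
        have h3 := h1.trans h2
        rw [relIndex_top_right] at h3
        exact (isSylIn_inn hZ S).not_dvd (h3.trans (Dvd.intro _ (relIndex_mul_relIndex T D _ hTD inf_le_right)))
      exact Group.isSolvable_of_isSolvable_injective
        (f := inclusion (le_inf inf_le_right (inf_le_left.trans hXS) : X ⊓ L ≤ Y))
        (inclusion_injective _)
  let f2 : N →* MulAut T := T.normalizerMonoidHom
  set K := (f.comp (inclusion hNN)).ker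
  haveI : Group.IsSolvable (K.map f2) := by
    refine FixInvolutions.isSolvable_of_fix hodd (S.isPGroup'.map _) _ ?_
    rintro _ ⟨n, hn, rfl⟩ x hx
    have h1 : inclusion hNN n ∈ f.ker := hn
    rw [normalizerMonoidHom_ker, mem_subgroupOf, mem_centralizer_iff] at h1
    have h2 := h1 _ (hT0mem _ x.2 (congrArg Subtype.val hx))
    refine Subtype.ext ?_
    show (n : MulAut G) * x * (n : MulAut G)⁻¹ = x
    change (x : MulAut G) * n = n * x at h2
    rw [← h2, mul_inv_cancel_right]
  haveI : Group.IsSolvable K := by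
    haveI hC0 := isSolvable_centralizer hodd hZ hO S
    haveI : Group.IsSolvable ↥((centralizer (T : Set (MulAut G))).subgroupOf N) :=
      Group.isSolvable_of_isSolvable_injective
        (f := (subgroupOfEquivOfLe (centralizer_le_normalizer _)).toMonoidHom) (MulEquiv.injective _)
    haveI : Group.IsSolvable (f2.ker) := by rw [normalizerMonoidHom_ker]; infer_instance
    haveI : Group.IsSolvable (f2.subgroupMap K).ker :=
      Group.isSolvable_of_isSolvable_injective
        (f := ({ toFun := fun y => ⟨(y.1 : N), congrArg Subtype.val y.2⟩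
                 map_one' := rfl
                 map_mul' := fun _ _ => rfl } : (f2.subgroupMap K).ker →* f2.ker))
        fun y z e => Subtype.ext (Subtype.ext (congrArg Subtype.val e :))
    exact Group.isSolvable_of_ker_le_range (f2.subgroupMap K).ker.subtype (f2.subgroupMap K)
      (by rw [range_subtype])
  haveI : Group.IsSolvable N := Group.isSolvable_of_ker_le_range K.subtype
    (f.comp (inclusion hNN)).rangeRestrict (by rw [MonoidHom.ker_rangeRestrict, range_subtype])
  exact isSolvable_out hodd hZ hO S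
    (Group.isSolvable_of_surjective f2.rangeRestrict_surjective)

end

end Cfsg.Agent.SylowAutSolvable.Ranks
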