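import Cfsg.Prelude.Def_KGroupFacts
import Cfsg.Agent.Lib.Components.SylowCentralizer
import Cfsg.Agent.Lib.Perm.NonsolvableRegular
import Cfsg.Agent.Lib.Characters.Burnside
import Cfsg.Agent.GroupStructure3.FrattiniAut

/-!
If odd order groups are solvable, `Out(G)` is solvable as soon as the automorphisms of a Sylow
2-subgroup induced by `Aut(G)` form a solvable group, for `Z(G) = 1 = O(G)`.
-/

set_option autoImplicit false
set_option linter.style.haveILetI false
set_option linter.unusedSectionVars false

namespace Cfsg.Agent.SylowAutSolvable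

open Subgroup
open scoped Pointwise
open Cfsg.Agent.CharP Cfsg.Agent.Components

universe u

variable {G : Type u} [Group G]

theorem conj_comp (φ : MulAut G) (g : G) :
    φ * MulAut.conj g * φ⁻¹ = MulAut.conj (φ g) := by
  ext x
  simp [MulAut.mul_apply]

theorem conj_injective (hZ : center G = ⊥) :
    Function.Injective (MulAut.conj : G →* MulAut G) := by
  rw [← MonoidHom.ker_eq_bot_iff, eq_bot_iff, ← hZ]
  intro g hg
  refine mem_center_iff.mpr fun x => ?_
  have h := DFunLike.congr_fun (MonoidHom.mem_ker.mp hg) x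
  simp only [MulAut.conj_apply, MulAut.one_apply] at h
  conv_lhs => rw [← h]
  group

theorem inn_normal : (Cfsg.Inn G).Normal :=
  ⟨fun a ha φ => by
    obtain ⟨g, rfl⟩ := ha
    exact ⟨φ g, (conj_comp φ g).symm⟩⟩

theorem centralizer_inn (hZ : center G = ⊥) :
    centralizer ((Cfsg.Inn G : Subgroup (MulAut G)) : Set (MulAut G)) = ⊥ := by
  refine eq_bot_iff.mpr fun φ hφ => mem_bot.mpr (MulEquiv.ext fun g => ?_)
  have h := mem_centralizer_iff.mp hφ (MulAut.conj g) ⟨g, rfl⟩
  have h2 := conj_comp φ g
  rw [← h, mul_inv_cancel_right] at h2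
  exact (conj_injective hZ h2).symm

variable [Finite G]

local notation "S'" S => Subgroup.map MulAut.conj ((S : Sylow 2 G) : Subgroup G)

theorem isSylIn_inn (hZ : center G = ⊥) (S : Sylow 2 G) :
    IsSylIn 2 (S' S) (Cfsg.Inn G) := by
  haveI : Fact (Nat.Prime 2) := ⟨Nat.prime_two⟩
  refine isSylIn_of_not_dvd (S.isPGroup'.map _) (map_le_range _ _) ?_
  show ¬ 2 ∣ relIndex _ (MulAut.conj : G →* MulAut G).range
  rw [MonoidHom.range_eq_map, relIndex_map_map_of_injective _ _ (conj_injective hZ),
    relIndex_top_right]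
  exact S.not_dvd_index

theorem oddCore_inn (hZ : center G = ⊥) (hO : Cfsg.oddCore G = ⊥) :
    Cfsg.oddCore ↥(Cfsg.Inn G) = ⊥ := by
  have h := Cores.map_pPrimeCore_eq (MonoidHom.ofInjective (conj_injective hZ)) 2
  rw [show Cfsg.pPrimeCore 2 G = ⊥ from hO, Subgroup.map_bot] at h
  exact h.symm

/-- The automorphisms centralizing a Sylow 2-subgroup form a solvable group. -/
theorem isSolvable_centralizer
    (hodd : ∀ (H : Type u) [Group H] [Finite H], Odd (Nat.card H) → Group.IsSolvable H)
    (hZ : center G = ⊥) (hO : Cfsg.oddCore G = ⊥) (S : Sylow 2 G) :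
    Group.IsSolvable ↥(centralizer ((S' S) : Set (MulAut G))) := by
  haveI : Fact (Nat.Prime 2) := ⟨Nat.prime_two⟩
  haveI : (Cfsg.Inn G).Normal := inn_normal
  set C := centralizer ((S' S) : Set (MulAut G))
  by_contra hns
  obtain ⟨L, -, hLnt, hLperf⟩ := Cfsg.Agent.Perm.NearField.exists_perfect_normal hns
  set J := L.map C.subtype with hJ
  have hJJ : ⁅J, J⁆ = J := by
    rw [hJ, ← map_commutator, ← Subgroup.map_subtype_commutator L, hLperf,
      ← MonoidHom.range_eq_map, range_subtype]
  have hperf : _root_.commutator J = ⊤ := Subgroup.map_injective J.subtype_injective (by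
    rw [Subgroup.map_subtype_commutator, hJJ, ← MonoidHom.range_eq_map, range_subtype])
  haveI := PComponents.pGen_subgroupOf_normal (p := 2) J
  have hgen : PComponents.pGen 2 J = J := by
    refine le_antisymm (PComponents.pGen_le J) ?_
    set P := (PComponents.pGen 2 J).subgroupOf J with hP
    have hsol : Group.IsSolvable (J ⧸ P) := hodd _ (by
      rw [← Nat.coprime_two_right]
      exact PComponents.coprime_relIndex_pGen J)
    intro x hx
    have hker : (⊤ : Subgroup J) ≤ P := by
      by_contra h
      haveI : Nontrivial (J ⧸ P) := by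
        by_contra hn
        rw [not_nontrivial_iff_subsingleton] at hn
        exact h fun y _ => (QuotientGroup.eq_one_iff y).mp (Subsingleton.elim _ _)
      refine (Group.IsSolvable.commutator_lt_top_of_nontrivial (J ⧸ P)).ne ?_
      rw [_root_.commutator_def, ← Subgroup.map_top_of_surjective (QuotientGroup.mk' P)
        (QuotientGroup.mk'_surjective P), ← map_commutator, ← _root_.commutator_def, hperf]
    exact mem_subgroupOf.mp (hker (mem_top (⟨x, hx⟩ : J)))
  have h := SylowCentralizer.eq_bot_of_centralizes_sylow (D := Cfsg.Inn G) (J := J)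
    (centralizer_inn hZ) (oddCore_inn hZ hO) (isSylIn_inn hZ S) hJJ hgen (map_subtype_le _)
  rw [hJ, Subgroup.map_eq_bot_iff, ker_subtype, le_bot_iff] at h
  exact (Subgroup.nontrivial_iff_ne_bot L).mp hLnt h

/-- If the automorphisms induced on the Sylow 2-subgroup form a solvable group, then `Out(G)` is
solvable. -/
theorem isSolvable_out
    (hodd : ∀ (H : Type u) [Group H] [Finite H], Odd (Nat.card H) → Group.IsSolvable H)
    (hZ : center G = ⊥) (hO : Cfsg.oddCore G = ⊥) (S : Sylow 2 G)
    (hM : Group.IsSolvable ↥(S' S).normalizerMonoidHom.range) :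
    Group.IsSolvable (Cfsg.Out G) := by
  haveI : Fact (Nat.Prime 2) := ⟨Nat.prime_two⟩
  haveI : (Cfsg.Inn G).Normal := inn_normal
  set T := (S' S) with hT
  set N := normalizer (T : Set (MulAut G))
  haveI hC0 : Group.IsSolvable ↥(centralizer (T : Set (MulAut G))) :=
    isSolvable_centralizer hodd hZ hO S
  haveI hC : Group.IsSolvable ↥((centralizer (T : Set (MulAut G))).subgroupOf N) :=
    Group.isSolvable_of_isSolvable_injective
      (f := (subgroupOfEquivOfLe (centralizer_le_normalizer _)).toMonoidHom) (MulEquiv.injective _)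
  haveI hNs : Group.IsSolvable N :=
    Group.isSolvable_of_ker_le_range ((centralizer (T : Set (MulAut G))).subgroupOf N).subtype
      T.normalizerMonoidHom.rangeRestrict
      (by rw [MonoidHom.ker_rangeRestrict, normalizerMonoidHom_ker, range_subtype])
  obtain ⟨P, hP⟩ := isSylIn_inn hZ S
  have htop : N ⊔ Cfsg.Inn G = ⊤ := by
    show normalizer ((S' S) : Set (MulAut G)) ⊔ _ = ⊤
    rw [← hP]
    exact Sylow.normalizer_sup_eq_top P
  refine Group.isSolvable_of_surjective (f := (QuotientGroup.mk' (Cfsg.Inn G)).comp N.subtype)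
    fun q => ?_
  obtain ⟨a, rfl⟩ := QuotientGroup.mk'_surjective _ q
  have ha : a ∈ ((N : Set (MulAut G)) * (Cfsg.Inn G : Set (MulAut G))) := by
    rw [← Subgroup.mul_normal N (Cfsg.Inn G), htop]; trivial
  obtain ⟨n, hn, d, hd, rfl⟩ := ha
  exact ⟨⟨n, hn⟩, ((QuotientGroup.eq (s := Cfsg.Inn G)).mpr (by simpa using hd))⟩

/-- `Out(G)` is solvable when `Aut(S)` is. -/
theorem isSolvable_out_of_mulAut
    (hodd : ∀ (H : Type u) [Group H] [Finite H], Odd (Nat.card H) → Group.IsSolvable H)
    (hZ : center G = ⊥) (hO : Cfsg.oddCore G = ⊥) (S : Sylow 2 G)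
    (hS : Group.IsSolvable (MulAut ↥(S : Subgroup G))) : Group.IsSolvable (Cfsg.Out G) := by
  refine isSolvable_out hodd hZ hO S ?_
  let e := (S : Subgroup G).equivMapOfInjective MulAut.conj (conj_injective hZ)
  haveI : Group.IsSolvable (MulAut ↥(S' S)) :=
    Group.isSolvable_of_surjective (f := (MulAut.congr e).toMonoidHom) (MulEquiv.surjective _)
  infer_instance

end Cfsg.Agent.SylowAutSolvable
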