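import Mathlib

/-!
A group acting faithfully and irreducibly on an elementary abelian 2-group and preserving an
anisotropic quadratic map has Sylow 2-subgroups of order at most 2.
-/

set_option autoImplicit false
set_option linter.style.haveILetI false
set_option linter.unusedSectionVars false

namespace Cfsg.Agent.SylowAutSolvable.Quadratic

variable {J M V : Type*} [Group J] [AddCommGroup M] [AddCommGroup V] [DistribMulAction J M]

/-- An invariant anisotropic quadratic map on an irreducible module of exponent two. -/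
structure Data (q : M → V) : Prop where
  two_M : ∀ x : M, x + x = 0
  two_V : ∀ a : V, a + a = 0
  add : ∀ x y z : M, q (x + y + z) + q x + q y + q z = q (x + y) + q (y + z) + q (x + z)
  inv : ∀ (j : J) (x : M), q (j • x) = q x
  aniso : ∀ x : M, q x = 0 → x = 0
  irred : ∀ W : AddSubgroup M, (∀ (j : J), ∀ x ∈ W, j • x ∈ W) → W = ⊥ ∨ W = ⊤

/-- The polar map of `q`. -/
def polar (q : M → V) (x y : M) : V := q (x + y) + q x + q y

namespace Data

variable {q : M → V} (h : Data (J := J) q)

local notation "b" => polar q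

include h

theorem eq_of_add_eq_zero {x y : M} (e : x + y = 0) : x = y := by
  calc x = x + y + y := by rw [add_assoc, h.two_M, add_zero]
    _ = y := by rw [e, zero_add]

theorem eqV_of_add_eq_zero {x y : V} (e : x + y = 0) : x = y := by
  calc x = x + y + y := by rw [add_assoc, h.two_V, add_zero]
    _ = y := by rw [e, zero_add]

theorem q_zero : q 0 = 0 := by
  have := h.add 0 0 0
  simp only [add_zero] at this
  simp only [h.two_V, zero_add] at this
  exact this.symm

theorem b_comm (x y : M) : b x y = b y x := by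
  rw [polar, polar, add_comm x y]; abel

theorem b_self (x : M) : b x x = 0 := by
  rw [polar, h.two_M, h.q_zero, zero_add, h.two_V]

theorem b_zero (x : M) : b x 0 = 0 := by
  rw [polar, add_zero, h.q_zero, add_zero, h.two_V]

theorem b_add_left (x y z : M) : b (x + y) z = b x z + b y z := by
  have e := h.add x y z
  refine h.eqV_of_add_eq_zero ?_
  calc b (x + y) z + (b x z + b y z)
      = (q (x + y + z) + q x + q y + q z) + (q (x + y) + q (y + z) + q (x + z))
          + (q z + q z) := by
        simp only [polar]; abel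
    _ = 0 := by rw [e, h.two_V, h.two_V, add_zero]

theorem b_add_right (x y z : M) : b x (y + z) = b x y + b x z := by
  rw [h.b_comm x, h.b_add_left, h.b_comm y, h.b_comm z]

theorem b_inv (j : J) (x y : M) : b (j • x) (j • y) = b x y := by
  simp only [polar, ← smul_add, h.inv]

theorem q_add (x y : M) : q (x + y) = q x + q y + b x y := by
  refine h.eqV_of_add_eq_zero ?_
  calc q (x + y) + (q x + q y + b x y)
      = (q (x + y) + q (x + y)) + ((q x + q x) + (q y + q y)) := by rw [polar]; abel
    _ = 0 := by simp only [h.two_V, add_zero]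

/-- `q(jv + v) = b(jv + v, v)`. -/
theorem q_u (j : J) (v : M) : q (j • v + v) = b (j • v + v) v := by
  rw [h.b_add_left, h.b_self, add_zero, h.q_add, h.inv, h.two_V, zero_add]

variable {σ : J} (hσ : ∀ x : M, σ • σ • x = x)
include hσ

theorem self_adjoint (x y : M) : b (σ • x) y = b x (σ • y) := by
  conv_lhs => rw [← h.b_inv σ, hσ]

theorem u_adjoint (x y : M) : b (σ • x + x) y = b x (σ • y + y) := by
  rw [h.b_add_left, h.b_add_right, h.self_adjoint hσ]

theorem u_u (x : M) : σ • (σ • x + x) = σ • x + x := by rw [smul_add, hσ, add_comm]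

theorem uu_zero {τ : J} (hτ : ∀ x : M, τ • τ • x = x) (hc : ∀ x : M, σ • τ • x = τ • σ • x)
    (v : M) : σ • (τ • v + v) + (τ • v + v) = 0 := by
  refine h.aniso _ ?_
  rw [h.q_u, h.u_adjoint hσ, h.u_adjoint hτ]
  have key : τ • (σ • (τ • v + v) + (τ • v + v)) + (σ • (τ • v + v) + (τ • v + v)) = 0 := by
    rw [smul_add, ← hc, h.u_u (σ := τ) hτ, h.two_M]
  have e : b (σ • (τ • v + v) + (τ • v + v)) (τ • v + v)
      = b (τ • (σ • (τ • v + v) + (τ • v + v)) + (σ • (τ • v + v) + (τ • v + v))) v := by
    rw [h.u_adjoint hτ]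
  rw [key, h.b_comm 0 v, h.b_zero, h.u_adjoint hσ, h.u_adjoint hτ] at e
  exact e

end Data

variable {q : M → V}

theorem sq_smul_eq (h : Data (J := J) q) (ρ : J) (hρ : ∀ x : M, ρ • ρ • ρ • ρ • x = x) (v : M) :
    ρ • ρ • v = v := by
  have hσ : ∀ x : M, (ρ * ρ) • (ρ * ρ) • x = x := fun x => by simp only [mul_smul]; exact hρ x
  have hy : ∀ w : M, ρ • (ρ • ρ • w + w) = ρ • ρ • w + w := by
    intro w
    refine h.eq_of_add_eq_zero (h.aniso _ ?_)
    rw [h.q_u, h.b_comm]
    set β := polar q w (ρ • w)
    have e1 : polar q (ρ • ρ • w) (ρ • ρ • ρ • w) = β := by rw [h.b_inv, h.b_inv]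
    have e2 : polar q (ρ • ρ • w) (ρ • w) = β := by rw [h.b_inv, h.b_comm]
    have e3 : polar q w (ρ • ρ • ρ • w) = β := by
      rw [← h.b_inv ρ w (ρ • ρ • ρ • w), hρ, h.b_comm]
    have e : polar q (ρ • ρ • w + w) (ρ • (ρ • ρ • w + w)) = 0 := by
      rw [smul_add, h.b_add_left, h.b_add_right, h.b_add_right, e1, e2, e3]
      simp [h.two_V]; exact h.two_V β
    rw [h.b_add_right, e, zero_add, h.b_self]
  refine h.eq_of_add_eq_zero (h.aniso _ ?_)
  set y := ρ • ρ • v + v with hy'
  have h1 : q y = polar q y v := by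
    have := h.q_u (ρ * ρ) v
    rwa [mul_smul] at this
  have h2 : polar q y (ρ • v) = polar q y v := by
    have e := h.b_inv ρ y v
    rwa [show ρ • y = y from hy v] at e
  have h3 : q y = polar q y (ρ • v) + polar q y v := by
    have h4 : y = ρ • (ρ • v + v) + (ρ • v + v) := by
      rw [hy', smul_add]
      calc ρ • ρ • v + v = ρ • ρ • v + v + (ρ • v + ρ • v) := by rw [h.two_M, add_zero]
        _ = _ := by abel
    conv_lhs => rw [h4, h.q_u, ← h4]
    exact h.b_add_right y _ _
  rw [h2, h.two_V] at h3
  exact h3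

section

variable [Finite M] (h : Data (J := J) q) {σ : J} (hσ : ∀ x : M, σ • σ • x = x)

/-- `σ + 1`. -/
def u (σ : J) : M →+ M := DistribSMul.toAddMonoidHom M σ + AddMonoidHom.id M

theorem u_apply (σ : J) (x : M) : u σ x = σ • x + x := rfl

include h hσ

theorem key (hne : ∃ x : M, σ • x ≠ x) :
    (∀ c : M, σ • c = c → ∃ v, σ • v + v = c) ∧
      ∀ z y : M, y ≠ 0 → σ • y = y → polar q z y = 0 → σ • z = z := by
  classical
  set U : M →+ M := u σ
  have hker : ∀ c, c ∈ U.ker ↔ σ • c = c := fun c => by
    rw [AddMonoidHom.mem_ker, u_apply]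
    exact ⟨h.eq_of_add_eq_zero, fun e => by rw [e, h.two_M]⟩
  have hrange : ∀ y ∈ U.range, y ∈ U.ker := by
    rintro _ ⟨v, rfl⟩
    rw [hker, u_apply, h.u_u hσ]
  have horth : ∀ c ∈ U.ker, ∀ y ∈ U.range, polar q c y = 0 := by
    rintro c hc _ ⟨v, rfl⟩
    rw [u_apply, ← h.u_adjoint hσ, (hker c).1 hc, h.two_M, h.b_comm, h.b_zero]
  have main : ∀ y0 ∈ U.range, y0 ≠ 0 → (∀ c ∈ U.ker, c ∈ U.range) ∧
      ∀ z, polar q z y0 = 0 → z ∈ U.ker := by
    intro y0 hy0 hne0
    let f : M →+ V := AddMonoidHom.mk' (fun z => polar q z y0) (fun x y => h.b_add_left x y y0)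
    have hR : ∀ x z : M, polar q z x ∈ f.range := by
      let R : AddSubgroup M :=
        { carrier := {x | ∀ z, polar q z x ∈ f.range}
          zero_mem' := fun z => by rw [h.b_zero]; exact zero_mem _
          add_mem' := fun {a c} ha hc z => by rw [h.b_add_right]; exact add_mem (ha z) (hc z)
          neg_mem' := fun {a} ha z => by
            rw [show -a = a from neg_eq_of_add_eq_zero_left (h.two_M a)]; exact ha z }
      rcases h.irred R (fun j x hx z => by
        rw [show z = j • j⁻¹ • z by rw [smul_inv_smul], h.b_inv]; exact hx _) with e | e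
      · exact absurd (show y0 ∈ (⊥ : AddSubgroup M) from e ▸ fun z => ⟨z, rfl⟩) (by simpa using hne0)
      · exact fun x z => (show x ∈ R by rw [e]; trivial) z
    have hQ : ∀ x : M, q x ∈ f.range := by
      let Q : AddSubgroup M :=
        { carrier := {x | q x ∈ f.range}
          zero_mem' := by show q 0 ∈ f.range; rw [h.q_zero]; exact zero_mem _
          add_mem' := fun {a c} ha hc => by
            show q (a + c) ∈ f.range
            rw [h.q_add]; exact add_mem (add_mem ha hc) (hR c a)
          neg_mem' := fun {a} ha => by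
            show q (-a) ∈ f.range
            rw [show -a = a from neg_eq_of_add_eq_zero_left (h.two_M a)]; exact ha }
      rcases h.irred Q (fun j x hx => show q (j • x) ∈ f.range by rw [h.inv]; exact hx) with e | e
      · obtain ⟨v, hv⟩ := hy0
        refine absurd (show y0 ∈ (⊥ : AddSubgroup M) from e ▸ ?_) (by simpa using hne0)
        refine ⟨v, ?_⟩
        show polar q v y0 = q y0
        rw [← hv, u_apply, h.q_u, h.b_comm]
      · exact fun x => show x ∈ Q by rw [e]; trivial
    let g : U.range →+ f.range := AddMonoidHom.mk' (fun y => ⟨q y, hQ y⟩) (fun a c => by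
      ext
      show q ((a : M) + c) = q a + q c
      rw [h.q_add, horth a (hrange a a.2) c c.2, add_zero])
    have ginj : Function.Injective g := by
      rw [injective_iff_map_eq_zero]
      exact fun a ha => Subtype.ext (h.aniso _ (congrArg Subtype.val ha))
    haveI : Finite f.range := Finite.of_surjective f.rangeRestrict f.rangeRestrict_surjective
    have hle : U.ker ≤ f.ker := fun c hc => horth c hc y0 hy0
    have h1 : Nat.card f.range ≤ Nat.card U.range := by
      rw [← AddSubgroup.index_ker, ← AddSubgroup.index_ker]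
      exact Nat.le_of_dvd (Nat.pos_of_ne_zero AddSubgroup.index_ne_zero_of_finite)
        (AddSubgroup.index_dvd_of_le hle)
    have h2 : Nat.card U.range ≤ Nat.card f.range := Nat.card_le_card_of_injective g ginj
    have gsurj : Function.Surjective g :=
      ((Nat.bijective_iff_injective_and_card g).2 ⟨ginj, le_antisymm h2 h1⟩).2
    refine ⟨fun c hc => ?_, fun z hz => ?_⟩
    · obtain ⟨i, hi⟩ := gsurj ⟨q c, hQ c⟩
      have hi' : q (i : M) = q c := congrArg Subtype.val hi
      have : (i : M) + c = 0 := h.aniso _ (by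
        rw [h.q_add, hi', h.two_V, zero_add, h.b_comm, horth c hc i i.2])
      rw [← h.eq_of_add_eq_zero this]
      exact i.2
    · have hidx : f.ker.index = U.ker.index := by
        rw [AddSubgroup.index_ker, AddSubgroup.index_ker]; omega
      have hcard : Nat.card f.ker = Nat.card U.ker := by
        have e1 := f.ker.card_mul_index
        have e2 := U.ker.card_mul_index
        rw [hidx, ← e2] at e1
        exact Nat.eq_of_mul_eq_mul_right
          (Nat.pos_of_ne_zero AddSubgroup.index_ne_zero_of_finite) e1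
      rw [SetLike.ext'_iff.2 (Set.eq_of_subset_of_ncard_le hle (by
        show Nat.card f.ker ≤ Nat.card U.ker
        omega) (Set.toFinite _))]
      exact hz
  obtain ⟨x, hx⟩ := hne
  have hx0 : U x ≠ 0 := fun e => hx ((hker x).1 e)
  have hC := (main (U x) ⟨x, rfl⟩ hx0).1
  refine ⟨fun c hc => hC c ((hker c).2 hc), fun z y hy hyσ hzy => ?_⟩
  exact (hker z).1 ((main y (hC y ((hker y).2 hyσ)) hy).2 z hzy)

end

/-- Two commuting involutions acting nontrivially act in the same way. -/
theorem smul_eq_smul [Finite M] (h : Data (J := J) q) {σ τ : J}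
    (hσ : ∀ x : M, σ • σ • x = x) (hτ : ∀ x : M, τ • τ • x = x)
    (hc : ∀ x : M, σ • τ • x = τ • σ • x) (hσ1 : ∃ x : M, σ • x ≠ x)
    (hτ1 : ∃ x : M, τ • x ≠ x) (v : M) : σ • v = τ • v := by
  obtain ⟨hCσ, hkσ⟩ := key h hσ hσ1
  obtain ⟨hCτ, -⟩ := key h hτ hτ1
  have hστ : ∀ c : M, τ • c = c → σ • c = c := fun c hcc => by
    obtain ⟨w, rfl⟩ := hCτ c hcc
    exact h.eq_of_add_eq_zero (h.uu_zero hσ hτ hc w)
  have hτσ : ∀ c : M, σ • c = c → τ • c = c := fun c hcc => by
    obtain ⟨w, rfl⟩ := hCσ c hcc
    exact h.eq_of_add_eq_zero (h.uu_zero hτ hσ (fun x => (hc x).symm) w)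
  by_cases hv : τ • v = v
  · rw [hστ v hv, hv]
  · have hy : τ • v + v ≠ 0 := fun e => hv (h.eq_of_add_eq_zero e)
    have hyσ : σ • (τ • v + v) = τ • v + v := hστ _ (h.u_u hτ v)
    obtain ⟨v', hv'⟩ := hCσ _ hyσ
    have e1 := h.q_u τ v
    have e2 := h.q_u σ v'
    rw [hv', e1] at e2
    have hz : σ • (v + v') = v + v' := by
      refine hkσ _ _ hy hyσ ?_
      rw [h.b_add_left, h.b_comm v, h.b_comm v', ← e2, h.two_V]
    have hu : σ • v + v = σ • v' + v' := h.eq_of_add_eq_zero (by
      calc σ • v + v + (σ • v' + v') = σ • (v + v') + (v + v') := by rw [smul_add]; abel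
        _ = 0 := by rw [hz, h.two_M])
    exact add_right_cancel (hu.trans hv')

/-- The 2-subgroups of a faithful group have order at most two. -/
theorem card_le_two [Finite M] [FaithfulSMul J M] (h : Data (J := J) q) (T : Subgroup J)
    [Finite T] (hT : IsPGroup 2 T) : Nat.card T ≤ 2 := by
  classical
  have hexp : ∀ k : ℕ, ∀ t : J, t ^ 2 ^ k = 1 → t * t = 1 := by
    intro k
    induction k with
    | zero => intro t ht; rw [pow_zero, pow_one] at ht; simp [ht]
    | succ k ih =>
      intro t ht
      rw [pow_succ', pow_mul, pow_two] at ht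
      have hρ : ∀ x : M, t • t • t • t • x = x := fun x => by
        rw [← mul_smul, ← mul_smul, ← mul_smul, mul_assoc (t * t), ih _ ht, one_smul]
      exact eq_of_smul_eq_smul fun x : M => by rw [mul_smul, one_smul]; exact sq_smul_eq h t hρ x
  have hsq : ∀ t : T, (t : J) * t = 1 := fun t => by
    obtain ⟨k, hk⟩ := hT t
    exact hexp k _ (by rw [← Subgroup.coe_pow, hk, Subgroup.coe_one])
  have hact : ∀ (t : T) (x : M), (t : J) • (t : J) • x = x := fun t x => by
    rw [← mul_smul, hsq t, one_smul]
  have heq : ∀ s t : T, s ≠ 1 → t ≠ 1 → s = t := by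
    intro s t hs ht
    have hne : ∀ r : T, r ≠ 1 → ∃ x : M, (r : J) • x ≠ x := fun r hr => by
      by_contra hall
      push Not at hall
      exact hr (Subtype.ext (eq_of_smul_eq_smul fun x : M => by rw [hall, Subgroup.coe_one, one_smul]))
    refine Subtype.ext (eq_of_smul_eq_smul fun x : M => smul_eq_smul h (hact s) (hact t) ?_
      (hne s hs) (hne t ht) x)
    intro y
    have e : (s : J) * t = t * s := by
      have h3 := hsq (s * t)
      rw [Subgroup.coe_mul] at h3
      calc (s : J) * t = ((s : J) * t)⁻¹ := eq_inv_of_mul_eq_one_left h3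
        _ = t * s := by
          rw [mul_inv_rev, inv_eq_of_mul_eq_one_left (hsq t), inv_eq_of_mul_eq_one_left (hsq s)]
    rw [← mul_smul, e, mul_smul]
  by_cases hall : ∀ t : T, t = 1
  · haveI : Subsingleton T := ⟨fun a c => (hall a).trans (hall c).symm⟩
    exact Finite.card_le_one_iff_subsingleton.2 inferInstance |>.trans (by norm_num)
  · push Not at hall
    obtain ⟨s, hs⟩ := hall
    have : Nat.card T ≤ Nat.card Bool := by
      refine Nat.card_le_card_of_injective (fun t : T => decide (t = 1)) fun a c hac => ?_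
      by_cases ha : a = 1
      · simp [ha] at hac; exact ha.trans hac.symm
      · simp [ha] at hac; exact heq a c ha hac
    simpa using this

end Cfsg.Agent.SylowAutSolvable.Quadratic
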